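import Cfsg.Agent.Lib.Helper72.HH5
import Cfsg.Agent.Lib.Helper72.CoprimeC
import Cfsg.Agent.Lib.Helper72.BG37a
import Cfsg.Agent.Lib.Helper22.CoprimeP

set_option autoImplicit false

/-! BG 11.7 farm, piece (P1) `gen_centralize` (helper88 for helper25). -/

namespace Cfsg.Agent.Lib.Helper88.BG11P1

open Subgroup Cfsg
open Cfsg.Agent.Lib

universe u

/-- the elements of order dividing `l` in `Z(H)`. -/
def omZ {G : Type u} [Group G] (H : Subgroup G) (l : ℕ) : Subgroup G where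
  carrier := {x | x ∈ H ∧ x ∈ centralizer (H : Set G) ∧ x ^ l = 1}
  one_mem' := ⟨H.one_mem, Subgroup.one_mem _, one_pow _⟩
  mul_mem' := by
    rintro a b ⟨ha, hca, hal⟩ ⟨hb, hcb, hbl⟩
    refine ⟨H.mul_mem ha hb, Subgroup.mul_mem _ hca hcb, ?_⟩
    have hc : Commute a b := mem_centralizer_iff.1 hcb a ha
    rw [hc.mul_pow, hal, hbl, one_mul]
  inv_mem' := by
    rintro a ⟨ha, hca, hal⟩
    exact ⟨H.inv_mem ha, Subgroup.inv_mem _ hca, by rw [inv_pow, hal, inv_one]⟩

theorem mem_omZ {G : Type u} [Group G] {H : Subgroup G} {l : ℕ} {x : G} :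
    x ∈ omZ H l ↔ x ∈ H ∧ x ∈ centralizer (H : Set G) ∧ x ^ l = 1 := Iff.rfl

theorem omZ_le {G : Type u} [Group G] (H : Subgroup G) (l : ℕ) : omZ H l ≤ H := fun _ h => h.1

theorem omZ_elem {G : Type u} [Group G] (H : Subgroup G) (l : ℕ) :
    IsElementaryAbelian l (omZ H l) := by
  refine ⟨⟨⟨fun a b => Subtype.ext ?_⟩⟩, fun a ha => ha.2.2⟩
  exact mem_centralizer_iff.1 b.2.2.1 a a.2.1

theorem le_normalizer_omZ {G : Type u} [Group G] {H A : Subgroup G} (l : ℕ)
    (hA : A ≤ normalizer (H : Set G)) : A ≤ normalizer (omZ H l : Set G) := by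
  have key : ∀ a ∈ A, ∀ x ∈ omZ H l, a * x * a⁻¹ ∈ omZ H l := by
    rintro a ha x ⟨hx, hcx, hxl⟩
    have haN := hA ha
    refine ⟨(mem_normalizer_iff.1 haN x).1 hx, ?_, by rw [conj_pow, hxl]; group⟩
    rw [mem_centralizer_iff]
    intro h hh
    have h1 : a⁻¹ * h * a ∈ H := by
      have := (mem_normalizer_iff.1 (Subgroup.inv_mem _ haN) h).1 hh
      simpa using this
    have h2 := mem_centralizer_iff.1 hcx _ h1
    calc h * (a * x * a⁻¹) = a * ((a⁻¹ * h * a) * x) * a⁻¹ := by group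
      _ = a * (x * (a⁻¹ * h * a)) * a⁻¹ := by rw [h2]
      _ = a * x * a⁻¹ * h := by group
  intro a ha
  rw [mem_normalizer_iff]
  intro x
  refine ⟨key a ha x, fun h => ?_⟩
  have := key a⁻¹ (A.inv_mem ha) _ h
  simpa [mul_assoc] using this

theorem center_ne_bot_of_nilpotent {K : Type u} [Group K] [Nontrivial K]
    (hK : Group.IsNilpotent K) : center K ≠ ⊥ := by
  intro hc
  obtain ⟨n, hn⟩ := hK.nilpotent'
  have key : ∀ m : ℕ, Subgroup.upperCentralSeries K m = ⊥ := by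
    intro m
    induction m with
    | zero => exact Subgroup.upperCentralSeries_zero K
    | succ m ih =>
      rw [eq_bot_iff]
      intro x hx
      rw [Subgroup.mem_upperCentralSeries_succ_iff] at hx
      rw [← hc, mem_center_iff]
      intro y
      have := hx y
      rw [ih, mem_bot, commutatorElement_def] at this
      have h2 : x * y = y * x := by
        calc x * y = (x * y * x⁻¹ * y⁻¹) * (y * x) := by group
          _ = y * x := by rw [this, one_mul]
      exact h2.symm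
  rw [key n] at hn
  exact bot_ne_top hn

theorem exists_omZ_ne_bot {G : Type u} [Group G] [Finite G] {H : Subgroup G}
    (hH : Group.IsNilpotent H) (h1 : H ≠ ⊥) :
    ∃ l : ℕ, l.Prime ∧ l ∣ Nat.card H ∧ omZ H l ≠ ⊥ := by
  have : Nontrivial H := (Subgroup.nontrivial_iff_ne_bot H).2 h1
  have hZ : Nontrivial (center H) :=
    (Subgroup.nontrivial_iff_ne_bot _).2 (center_ne_bot_of_nilpotent hH)
  have hc : Nat.card (center H) ≠ 1 := by
    intro h
    have := (Nat.card_eq_one_iff_unique.1 h).1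
    exact not_subsingleton _ this
  obtain ⟨l, hl, hdvd⟩ := Nat.exists_prime_and_dvd hc
  have : Fact l.Prime := ⟨hl⟩
  obtain ⟨z, hz⟩ := exists_prime_orderOf_dvd_card' l hdvd
  refine ⟨l, hl, hdvd.trans (Subgroup.card_subgroup_dvd_card _), ?_⟩
  intro hbot
  have hmem : ((z : H) : G) ∈ omZ H l := by
    refine ⟨(z : H).2, ?_, ?_⟩
    · rw [mem_centralizer_iff]
      intro h hh
      have := (mem_center_iff.1 z.2) ⟨h, hh⟩
      exact congrArg Subtype.val this
    · have : z ^ l = 1 := by rw [← hz]; exact pow_orderOf_eq_one z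
      have h2 := congrArg (fun t : center H => ((t : H) : G)) this
      simpa using h2
  rw [hbot, mem_bot] at hmem
  have : z = 1 := Subtype.ext (Subtype.ext hmem)
  rw [this, orderOf_one] at hz
  exact hl.one_lt.ne hz

theorem isNilpotent_img {G : Type u} [Group G] {V H : Subgroup G}
    (hH : Group.IsNilpotent H) (hHV : H ≤ normalizer (V : Set G)) :
    Group.IsNilpotent ↥(Helper72.Bar.img V H) := by
  have h1 : Group.IsNilpotent ↥(H.subgroupOf (normalizer (V : Set G))) :=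
    Group.nilpotent_of_mulEquiv (subgroupOfEquivOfLe hHV).symm
  unfold Helper72.Bar.img
  exact Group.nilpotent_of_surjective
    ((Helper72.Bar.pr V).subgroupMap (H.subgroupOf (normalizer (V : Set G))))
    (MonoidHom.subgroupMap_surjective _ _)

theorem gen_centralize_aux (p q : ℕ) (hp : p.Prime) (hq : q.Prime) (hpq : p ≠ q) :
    ∀ (n : ℕ) (G : Type u) [Group G] [Finite G] (H X Q : Subgroup G), Nat.card H = n →
      Odd (Nat.card G) → Group.IsNilpotent H → Nat.card X = p → IsPGroup q Q →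
      X ≤ normalizer (H : Set G) → Q ≤ normalizer (H : Set G) → X ≤ normalizer (Q : Set G) →
      ¬ p ∣ Nat.card H → ¬ q ∣ Nat.card H → H ⊓ centralizer (X : Set G) = ⊥ →
      ⁅Q, X⁆ ≤ centralizer (H : Set G) := by
  intro n
  induction n using Nat.strong_induction_on with
  | _ n ih =>
  intro G _ _ H X Q hn hodd hH hX hQ hXH hQH hXQ hpH hqH hfpf
  have : Fact p.Prime := ⟨hp⟩
  have : Fact q.Prime := ⟨hq⟩
  by_cases h1 : H = ⊥
  · subst h1
    intro x _
    rw [mem_centralizer_iff]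
    intro h hh
    have h2 : h = 1 := hh
    rw [h2, one_mul, mul_one]
  obtain ⟨l, hl, hlH, hV1⟩ := exists_omZ_ne_bot hH h1
  obtain ⟨V, hVdef⟩ : ∃ V, V = omZ H l := ⟨_, rfl⟩
  rw [← hVdef] at hV1
  have hlp : l ≠ p := fun h => hpH (h ▸ hlH)
  have hlq : l ≠ q := fun h => hqH (h ▸ hlH)
  have hVH : V ≤ H := hVdef ▸ omZ_le H l
  have hXV : X ≤ normalizer (V : Set G) := hVdef ▸ le_normalizer_omZ l hXH
  have hQV : Q ≤ normalizer (V : Set G) := hVdef ▸ le_normalizer_omZ l hQH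
  have hHV : H ≤ normalizer (V : Set G) := hVdef ▸ le_normalizer_omZ l le_normalizer
  have hVe : IsElementaryAbelian l V := hVdef ▸ omZ_elem H l
  have hCV : V ⊓ centralizer (X : Set G) = ⊥ := by
    rw [eq_bot_iff, ← hfpf]
    exact inf_le_inf_right _ hVH
  have hA : ⁅Q, X⁆ ≤ centralizer (V : Set G) := by
    refine Helper72.lemmaA Helper72.h3764 hl hq hp hlq hlp hpq.symm X Q V hX hQ hXQ hVe hXV hQV
      hCV ?_
    intro h2 _
    obtain ⟨k, hk⟩ := IsPGroup.iff_card.1 hQ
    have hdvd : Nat.card Q ∣ Nat.card G := Subgroup.card_subgroup_dvd_card Q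
    have hk0 : k = 0 := by
      by_contra hk0
      have h3 : 2 ∣ Nat.card G := by
        refine dvd_trans ?_ hdvd
        rw [hk, h2]
        exact dvd_pow_self 2 hk0
      exact (Nat.not_even_iff_odd.2 hodd) (even_iff_two_dvd.2 h3)
    rw [hk0, pow_zero] at hk
    have hss : Subsingleton Q := (Nat.card_eq_one_iff_unique.1 hk).1
    exact ⟨⟨fun a b => Subsingleton.elim _ _⟩⟩
  have hXp : IsPGroup p X := IsPGroup.of_card (n := 1) (by rw [hX, pow_one])
  have hpV : ¬ p ∣ Nat.card V := fun h => hpH (h.trans (Subgroup.card_dvd_of_le hVH))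
  have hlt : Nat.card (Helper72.Bar.img V H) < n :=
    hn ▸ Helper72.Bar.card_img_lt hHV (by rwa [inf_eq_right.2 hVH])
  have hXVbot : X ⊓ V = ⊥ := by
    refine (Subgroup.disjoint_of_coprime_natCard ?_).eq_bot
    rw [hX]
    exact (Nat.Prime.coprime_iff_not_dvd hp).2 hpV
  have hIH : ⁅Helper72.Bar.img V Q, Helper72.Bar.img V X⁆ ≤
      centralizer (Helper72.Bar.img V H : Set (Helper72.Bar.QG V)) := by
    refine ih _ hlt (Helper72.Bar.QG V) (Helper72.Bar.img V H) (Helper72.Bar.img V X)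
      (Helper72.Bar.img V Q) rfl ?_ (isNilpotent_img hH hHV) ?_ (Helper72.Bar.isPGroup_img hQ)
      (Helper72.Bar.img_le_normalizer hXH) (Helper72.Bar.img_le_normalizer hQH)
      (Helper72.Bar.img_le_normalizer hXQ) ?_ ?_ ?_
    · have h2 : Nat.card (Helper72.Bar.QG V) ∣ Nat.card G :=
        (Subgroup.card_quotient_dvd_card _).trans (Subgroup.card_subgroup_dvd_card _)
      exact Odd.of_dvd_nat hodd h2
    · rw [Helper72.Bar.card_img_of_disjoint hXV hXVbot, hX]
    · exact fun h => hpH (h.trans (Helper72.Bar.card_img_dvd hHV))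
    · exact fun h => hqH (h.trans (Helper72.Bar.card_img_dvd hHV))
    · rw [eq_bot_iff]
      rintro y ⟨hy1, hy2⟩
      obtain ⟨h, hN, hh, rfl⟩ := Helper72.Bar.mem_img.1 hy1
      obtain ⟨v, hv, hc⟩ := Helper22.exists_fixed_in_coset X V hXp hpV hXV h (by
        intro a ha
        have haN := hXV ha
        have h3 := mem_centralizer_iff.1 hy2 _ (Helper72.Bar.pr_mem_img haN ha)
        rw [← Helper72.Bar.pr_eq_one_iff (D := V)
          (Subgroup.mul_mem _ (Subgroup.inv_mem _ hN)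
            (Subgroup.mul_mem _ (Subgroup.mul_mem _ haN hN) (Subgroup.inv_mem _ haN)))]
        have h4 : (⟨h⁻¹ * (a * h * a⁻¹), Subgroup.mul_mem _ (Subgroup.inv_mem _ hN)
            (Subgroup.mul_mem _ (Subgroup.mul_mem _ haN hN) (Subgroup.inv_mem _ haN))⟩ :
            normalizer (V : Set G)) = ⟨h, hN⟩⁻¹ * (⟨a, haN⟩ * ⟨h, hN⟩ * ⟨a, haN⟩⁻¹) := rfl
        rw [h4, map_mul, map_mul, map_mul, map_inv, map_inv, h3]
        group)
      have h5 : h * v ∈ H ⊓ centralizer (X : Set G) := ⟨H.mul_mem hh (hVH hv), hc⟩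
      rw [hfpf, mem_bot] at h5
      have h6 : h ∈ V := by
        have : h = v⁻¹ := eq_inv_of_mul_eq_one_left h5
        rw [this]
        exact V.inv_mem hv
      rw [mem_bot]
      exact (Helper72.Bar.pr_eq_one_iff hN).2 h6
  obtain ⟨Q0, hQ0⟩ : ∃ Q0, Q0 = ⁅Q, X⁆ := ⟨_, rfl⟩
  rw [← hQ0] at hA ⊢
  have hQ0Q : Q0 ≤ Q := by
    rw [hQ0]
    exact Subgroup.le_normalizer_iff_commutator_le_left.1 hXQ
  have hQ0V : Q0 ≤ normalizer (V : Set G) := hQ0Q.trans hQV
  have hQ0H : Q0 ≤ normalizer (H : Set G) := hQ0Q.trans hQH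
  have hHQ0 : ⁅H, Q0⁆ ≤ H := Subgroup.le_normalizer_iff_commutator_le_left.1 hQ0H
  have h7 : ⁅H, Q0⁆ ≤ V := by
    rw [← Helper72.Bar.img_eq_bot_iff (hHQ0.trans hHV), Helper72.Bar.img_commutator hHV hQ0V, hQ0,
      Helper72.Bar.img_commutator hQV hXV, commutator_comm,
      commutator_eq_bot_iff_le_centralizer]
    exact hIH
  have h8 : ⁅⁅H, Q0⁆, Q0⁆ = ⊥ := by
    rw [eq_bot_iff]
    refine (commutator_mono h7 le_rfl).trans ?_
    rw [commutator_comm, le_bot_iff, commutator_eq_bot_iff_le_centralizer]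
    exact hA
  rw [Helper22.commutator_commutator_eq Q0 H (hQ.to_le hQ0Q) hqH hQ0H,
    commutator_eq_bot_iff_le_centralizer] at h8
  exact le_centralizer_iff.1 h8

/-- (P1) of the BG 11.7 farm. -/
theorem gen_centralize {G : Type u} [Group G] [Finite G] (hodd : Odd (Nat.card G))
    {H X Q : Subgroup G} {p q : ℕ} (hp : p.Prime) (hq : q.Prime) (hpq : p ≠ q)
    (hH : Group.IsNilpotent H) (hX : Nat.card X = p) (hQ : IsPGroup q Q)
    (hXH : X ≤ normalizer (H : Set G)) (hQH : Q ≤ normalizer (H : Set G))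
    (hXQ : X ≤ normalizer (Q : Set G)) (hpH : ¬ p ∣ Nat.card H) (hqH : ¬ q ∣ Nat.card H)
    (hfpf : H ⊓ centralizer (X : Set G) = ⊥) : ⁅Q, X⁆ ≤ centralizer (H : Set G) :=
  gen_centralize_aux p q hp hq hpq _ G H X Q rfl hodd hH hX hQ hXH hQH hXQ hpH hqH hfpf

end Cfsg.Agent.Lib.Helper88.BG11P1
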