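import Cfsg.Agent.Lib.Helper84.FusionBasic

set_option autoImplicit false

/-! The fusion system over `S` of restrictions of a group `A` of automorphisms of `S` containing
the inner ones (the system of `S ⋊ A`), and normality of `S` (helper88). -/

namespace Cfsg.Agent.Lib.Helper88

open Cfsg Cfsg.FusionSystem Cfsg.Agent.Lib.Helper84

variable {Ω : Type*} [Group Ω] {S : Subgroup Ω}

/-- The fusion system whose maps are the restrictions of the elements of `A ≤ Aut(S)`. -/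
def autSystem (A : Subgroup (MulAut S)) (hA : ∀ g : S, MulAut.conj g ∈ A) : FusionSystem S where
  Hom P := {φ | ∃ hP : P ≤ S, ∃ α ∈ A, ∀ x : P, φ x = ((α ⟨x, hP x.2⟩ : S) : Ω)}
  le_of_mem := by
    rintro P φ ⟨hP, α, -, h⟩
    exact ⟨hP, fun x => by rw [h]; exact (α _).2⟩
  injective_of_mem := by
    rintro P φ ⟨hP, α, -, h⟩ a b hab
    rw [h, h] at hab
    have := α.injective (Subtype.ext hab)
    exact Subtype.ext (congrArg (fun t : S => (t : Ω)) this)
  conj_mem := by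
    intro P g hP hg
    exact ⟨hP, MulAut.conj ⟨g, hg⟩, hA _, fun x => rfl⟩
  comp_mem := by
    rintro P Q φ ψ ⟨hP, α, hα, h⟩ ⟨hQ, β, hβ, h'⟩ hφQ
    refine ⟨hP, β * α, A.mul_mem hβ hα, fun x => ?_⟩
    show ψ (φ.codRestrict Q hφQ x) = _
    rw [h', MulAut.mul_apply]
    congr 2
    apply Subtype.ext
    exact h x
  inv_mem := by
    rintro P φ ⟨hP, α, hα, h⟩
    have hr : φ.range ≤ S := by
      rintro _ ⟨x, rfl⟩
      rw [h]; exact (α _).2
    refine ⟨(S.subtype.comp (α⁻¹).toMonoidHom).comp (Subgroup.inclusion hr),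
      ⟨hr, α⁻¹, A.inv_mem hα, fun x => rfl⟩, fun x => ?_⟩
    show (((α⁻¹) ⟨φ x, _⟩ : S) : Ω) = x
    have : (⟨φ x, hr ⟨x, rfl⟩⟩ : S) = α ⟨x, hP x.2⟩ := Subtype.ext (h x)
    rw [this]
    simp

theorem mem_autSystem_hom {A : Subgroup (MulAut S)} {hA : ∀ g : S, MulAut.conj g ∈ A}
    {P : Subgroup Ω} {φ : P →* Ω} :
    φ ∈ (autSystem A hA).Hom P ↔ ∃ hP : P ≤ S, ∃ α ∈ A, ∀ x : P, φ x = ((α ⟨x, hP x.2⟩ : S) : Ω) :=
  Iff.rfl

theorem conj_mem_autGroup_top (F : FusionSystem S) (g : S) : MulAut.conj g ∈ F.autGroup S := by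
  rw [mem_autGroup_iff F le_rfl]
  exact F.conj_mem le_rfl g.2

theorem autGroup_autSystem (A : Subgroup (MulAut S)) (hA : ∀ g : S, MulAut.conj g ∈ A) :
    (autSystem A hA).autGroup S = A := by
  ext α
  rw [mem_autGroup_iff _ le_rfl]
  constructor
  · rintro ⟨_, β, hβ, hh⟩
    have : α = β := by
      ext x
      exact hh x
    rwa [this]
  · intro hα
    exact ⟨le_rfl, α, hα, fun x => rfl⟩

/-- `S` is normal in `F` as soon as every map is the restriction of an element of `Aut_F(S)`. -/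
theorem isNormal_top_of_le (F : FusionSystem S)
    (h : F ≤ autSystem (F.autGroup S) (conj_mem_autGroup_top F)) : F.IsNormal S := by
  refine ⟨le_rfl, fun P φ hφ => ?_⟩
  obtain ⟨hP, α, hα, hα'⟩ := h P hφ
  have hle : P ⊔ S ≤ S := sup_le hP le_rfl
  refine ⟨_, restrict_mem F ((mem_autGroup_iff F le_rfl α).1 hα) hle, fun x => (hα' x).symm, ?_⟩
  ext y
  constructor
  · rintro ⟨x, -, rfl⟩
    exact (α _).2
  · intro hy
    have hsup : S ≤ P ⊔ S := le_sup_right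
    refine ⟨⟨(α⁻¹ ⟨y, hy⟩ : S), hsup (α⁻¹ ⟨y, hy⟩ : S).2⟩, (α⁻¹ ⟨y, hy⟩ : S).2, ?_⟩
    show ((α (Subgroup.inclusion hle _) : S) : Ω) = y
    have : Subgroup.inclusion hle ⟨(α⁻¹ ⟨y, hy⟩ : S), hsup (α⁻¹ ⟨y, hy⟩ : S).2⟩ =
        α⁻¹ ⟨y, hy⟩ := rfl
    rw [this]
    simp

theorem le_autSystem_of_isNormal_top [Finite S] (F : FusionSystem S) (h : F.IsNormal S) :
    F ≤ autSystem (F.autGroup S) (conj_mem_autGroup_top F) := by
  intro P φ hφ
  have hP := (F.le_of_mem hφ).1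
  obtain ⟨ψ, hψ, h1, -⟩ := h.2 P φ hφ
  have h2 := restrict_mem F hψ (le_sup_right : S ≤ P ⊔ S)
  have hle : (ψ.comp (Subgroup.inclusion (le_sup_right : S ≤ P ⊔ S))).range ≤ S := by
    rintro _ ⟨x, rfl⟩
    exact (F.le_of_mem h2).2 x
  have hinj := F.injective_of_mem h2
  have hr : (ψ.comp (Subgroup.inclusion (le_sup_right : S ≤ P ⊔ S))).range = S := by
    apply Subgroup.eq_of_le_of_card_ge hle
    rw [Nat.card_congr (MonoidHom.ofInjective hinj).toEquiv]
  refine ⟨hP, equivOfRange _ hinj hr, ?_, fun x => ?_⟩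
  · rw [mem_autGroup_iff F le_rfl]
    exact mor_equivOfRange F h2 hr
  · rw [← h1 x]
    rfl

end Cfsg.Agent.Lib.Helper88
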