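import Mathlib

set_option autoImplicit false

/-! A `p'`-automorphism of a finite `p`-group fixing all elements of order `p` (and `4` when
`p = 2`) is trivial (helper88). Relative version, for invariant subgroups of an ambient group. -/

namespace Cfsg.Agent.Lib.Helper88

variable {P : Type*} [Group P]

theorem twist_nc (β : MulAut P) {x t : P} (h1 : β x = x * t) (h2 : β t = t) (j : ℕ) :
    (β ^ j) x = x * t ^ j := by
  induction j with
  | zero => simp
  | succ j ih =>
    rw [pow_succ', MulAut.mul_apply, ih, map_mul, map_pow, h1, h2, pow_succ', mul_assoc]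

theorem eq_one_of_twist (p : ℕ) (β : MulAut P) (m : ℕ) (hm : m.Coprime p)
    (hβ : β ^ m = 1) {x t : P} (h1 : β x = x * t) (h2 : β t = t) (ht : ∃ k : ℕ, t ^ (p ^ k) = 1) :
    t = 1 := by
  have h4 := twist_nc β h1 h2 m
  rw [hβ, MulAut.one_apply] at h4
  have h5 : t ^ m = 1 := by
    have : x * 1 = x * t ^ m := by rw [mul_one]; exact h4
    exact (mul_left_cancel this).symm
  obtain ⟨k, hk⟩ := ht
  have h6 : orderOf t ∣ m := orderOf_dvd_of_pow_eq_one h5
  have h7 : orderOf t ∣ p ^ k := orderOf_dvd_of_pow_eq_one hk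
  have h8 : orderOf t = 1 := Nat.eq_one_of_dvd_coprimes (hm.pow_right k) h6 h7
  exact orderOf_eq_one_iff.1 h8

theorem pow_mul_comm_central {x y c : P} (hc : x * y = c * (y * x)) (hcx : Commute c x) (n : ℕ) :
    x ^ n * y = c ^ n * (y * x ^ n) := by
  induction n with
  | zero => simp
  | succ n ih =>
    have h1 : Commute c (x ^ n) := hcx.pow_right n
    calc x ^ (n + 1) * y = x ^ n * (x * y) := by rw [pow_succ, mul_assoc]
      _ = x ^ n * (c * (y * x)) := by rw [hc]
      _ = c * (x ^ n * y) * x := by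
        rw [← mul_assoc (x ^ n) c, ← h1.eq]; simp only [mul_assoc]
      _ = c * (c ^ n * (y * x ^ n)) * x := by rw [ih]
      _ = c ^ (n + 1) * (y * x ^ (n + 1)) := by
        rw [pow_succ' c, pow_succ x]; simp only [mul_assoc]

theorem mul_pow_central {x y d : P} (hd : y * x = d * (x * y)) (hdx : Commute d x)
    (hdy : Commute d y) (n : ℕ) : (x * y) ^ n = d ^ (n.choose 2) * (x ^ n * y ^ n) := by
  induction n with
  | zero => simp
  | succ n ih =>
    have h1 : y ^ n * x = d ^ n * (x * y ^ n) := pow_mul_comm_central hd hdy n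
    have h2 : Commute (d ^ n) (x ^ n) := (hdx.pow_left n).pow_right n
    have h3 : (n + 1).choose 2 = n.choose 2 + n := by
      rw [Nat.choose_succ_succ' n 1, Nat.choose_one_right, add_comm]
    calc (x * y) ^ (n + 1) = (x * y) ^ n * (x * y) := pow_succ _ _
      _ = d ^ (n.choose 2) * (x ^ n * y ^ n) * (x * y) := by rw [ih]
      _ = d ^ (n.choose 2) * (x ^ n * (y ^ n * x) * y) := by simp only [mul_assoc]
      _ = d ^ (n.choose 2) * (x ^ n * (d ^ n * (x * y ^ n)) * y) := by rw [h1]
      _ = d ^ (n.choose 2) * (d ^ n * x ^ n * (x * y ^ n) * y) := by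
        rw [← mul_assoc (x ^ n) (d ^ n), ← h2.eq]
      _ = d ^ ((n + 1).choose 2) * (x ^ (n + 1) * y ^ (n + 1)) := by
        rw [h3, pow_add, pow_succ x, pow_succ y]; simp only [mul_assoc]

/-- a nontrivial finite `p`-subgroup has a proper subgroup, normalized by it, containing all `p`-th powers and
commutators. -/
theorem exists_index_p (p : ℕ) [Fact p.Prime] (D : Subgroup P) [Finite D] (hD : IsPGroup p D)
    (hne : D ≠ ⊥) : ∃ M : Subgroup P, M < D ∧ (∀ x ∈ D, x ^ p ∈ M) ∧
      (∀ x ∈ D, ∀ y ∈ D, x * y * x⁻¹ * y⁻¹ ∈ M) ∧ (∀ d ∈ D, ∀ x ∈ M, d * x * d⁻¹ ∈ M) := by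
  have hnt : Nontrivial D := (Subgroup.nontrivial_iff_ne_bot D).2 hne
  obtain ⟨k, hk, hcard⟩ := hD.nontrivial_iff_card.1 hnt
  obtain ⟨k, rfl⟩ : ∃ k', k = k' + 1 := ⟨k - 1, by omega⟩
  obtain ⟨M0, hM0⟩ := Sylow.exists_subgroup_card_pow_prime (G := D) p (n := k)
    (by rw [hcard]; exact pow_dvd_pow p (by omega))
  have hp : p.Prime := Fact.out
  have hidx : M0.index = p := by
    have h1 := M0.card_mul_index
    rw [hM0, hcard, pow_succ] at h1
    exact Nat.eq_of_mul_eq_mul_left (pow_pos hp.pos k) h1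
  have hnorm : M0.Normal := by
    apply Subgroup.normal_of_index_eq_minFac_card
    rw [hidx, hcard, Nat.pow_minFac (by omega), hp.minFac_eq]
  have hcq : Nat.card (D ⧸ M0) = p := by rw [← Subgroup.index_eq_card]; exact hidx
  have hcyc : IsCyclic (D ⧸ M0) := isCyclic_of_prime_card hcq
  refine ⟨M0.map D.subtype, ?_, ?_, ?_, ?_⟩
  · refine lt_of_le_of_ne (Subgroup.map_subtype_le M0) ?_
    intro h
    have h1 : Nat.card (M0.map D.subtype) = Nat.card M0 :=
      Subgroup.card_map_of_injective D.subtype_injective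
    rw [h, hcard, hM0] at h1
    have := Nat.pow_right_injective hp.two_le h1
    omega
  · intro x hx
    refine ⟨⟨x, hx⟩ ^ p, ?_, rfl⟩
    show (⟨x, hx⟩ : D) ^ p ∈ M0
    rw [← QuotientGroup.eq_one_iff, QuotientGroup.mk_pow, ← hcq]
    exact pow_card_eq_one'
  · intro x hx y hy
    refine ⟨⟨x, hx⟩ * ⟨y, hy⟩ * ⟨x, hx⟩⁻¹ * ⟨y, hy⟩⁻¹, ?_, rfl⟩
    show (⟨x, hx⟩ : D) * ⟨y, hy⟩ * ⟨x, hx⟩⁻¹ * ⟨y, hy⟩⁻¹ ∈ M0
    rw [← QuotientGroup.eq_one_iff]
    have hcomm : ∀ a b : D ⧸ M0, a * b = b * a := by
      letI := IsCyclic.commGroup (α := D ⧸ M0)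
      exact fun a b => mul_comm a b
    simp only [QuotientGroup.mk_mul, QuotientGroup.mk_inv]
    rw [hcomm (↑(⟨x, hx⟩ : D)) (↑(⟨y, hy⟩ : D))]
    group
  · rintro d hd _ ⟨x, hx, rfl⟩
    exact ⟨⟨d, hd⟩ * x * ⟨d, hd⟩⁻¹, hnorm.conj_mem x hx _, rfl⟩

/-- **Main lemma.** -/
theorem fixes_of_fixes_small (p : ℕ) [Fact p.Prime] (β : MulAut P) (m : ℕ) (hm : m.Coprime p)
    (hβ : β ^ m = 1) (n : ℕ) : ∀ D : Subgroup P, Finite D → IsPGroup p D → Nat.card D ≤ n →
      (∀ x ∈ D, β x ∈ D) → (∀ x ∈ D, (x ^ p = 1 ∨ (p = 2 ∧ x ^ 4 = 1)) → β x = x) →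
      ∀ x ∈ D, β x = x := by
  have hp : p.Prime := Fact.out
  induction n with
  | zero =>
    intro D hfin _ hcard
    have := Nat.card_pos (α := D)
    omega
  | succ n ih =>
    intro D hfin hD hcard hinv hsmall
    have hpow : ∀ t ∈ D, ∃ k : ℕ, t ^ (p ^ k) = 1 := by
      intro t ht
      obtain ⟨k, hk⟩ := hD ⟨t, ht⟩
      exact ⟨k, congrArg Subtype.val hk⟩
    -- induction hypothesis for proper invariant subgroups
    have IH : ∀ D' : Subgroup P, D' < D → (∀ x ∈ D', β x ∈ D') → ∀ x ∈ D', β x = x := by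
      intro D' hlt hinv'
      have hfin' : Finite D' := Finite.of_injective (Subgroup.inclusion hlt.le)
        (Subgroup.inclusion_injective _)
      have hc : Nat.card D' < Nat.card D := by
        have hle := Subgroup.card_le_of_le hlt.le
        rcases hle.lt_or_eq with h1 | h1
        · exact h1
        · exact absurd (Subgroup.eq_of_le_of_card_ge hlt.le h1.ge) hlt.ne
      exact ih D' hfin' (hD.to_le hlt.le) (by omega) hinv'
        (fun x hx => hsmall x (hlt.le hx))
    by_cases hne : D = ⊥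
    · intro x hx
      rw [hne, Subgroup.mem_bot] at hx
      rw [hx, map_one]
    set K : Subgroup P := Subgroup.closure {t | ∃ x ∈ D, t = x⁻¹ * β x} with hK
    have hKD : K ≤ D := by
      rw [hK, Subgroup.closure_le]
      rintro _ ⟨x, hx, rfl⟩
      exact D.mul_mem (D.inv_mem hx) (hinv x hx)
    have hKinv : ∀ x ∈ K, β x ∈ K := by
      intro x hx
      have : K ≤ K.comap β.toMonoidHom := by
        rw [hK, Subgroup.closure_le]
        rintro _ ⟨y, hy, rfl⟩
        show β (y⁻¹ * β y) ∈ Subgroup.closure _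
        apply Subgroup.subset_closure
        exact ⟨β y, hinv y hy, by rw [map_mul, map_inv]⟩
      exact this hx
    rcases hKD.lt_or_eq with hlt | heq
    · -- `K` proper
      have hKfix := IH K hlt hKinv
      intro x hx
      have ht : x⁻¹ * β x ∈ K := Subgroup.subset_closure ⟨x, hx, rfl⟩
      have h1 : β x = x * (x⁻¹ * β x) := by rw [mul_inv_cancel_left]
      have := eq_one_of_twist p β m hm hβ h1 (hKfix _ ht) (hpow _ (hKD ht))
      rw [h1, this, mul_one]
    · -- `K = D`
      obtain ⟨M, hMD, hMp, hMc, hMn⟩ := exists_index_p p D hD hne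
      -- the invariant core of `M`
      let N : Subgroup P :=
        { carrier := {x | x ∈ D ∧ ∀ j : ℕ, (β ^ j) x ∈ M}
          one_mem' := ⟨D.one_mem, fun j => by rw [map_one]; exact M.one_mem⟩
          mul_mem' := fun {a b} ha hb => ⟨D.mul_mem ha.1 hb.1, fun j => by
            rw [map_mul]; exact M.mul_mem (ha.2 j) (hb.2 j)⟩
          inv_mem' := fun {a} ha => ⟨D.inv_mem ha.1, fun j => by
            rw [map_inv]; exact M.inv_mem (ha.2 j)⟩ }
      have hpowinv : ∀ (j : ℕ), ∀ x ∈ D, (β ^ j) x ∈ D := by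
        intro j
        induction j with
        | zero => intro x hx; simpa using hx
        | succ j ihj =>
          intro x hx
          rw [pow_succ', MulAut.mul_apply]
          exact hinv _ (ihj x hx)
      have hND : N < D := by
        refine lt_of_le_of_lt ?_ hMD
        intro x hx
        have := hx.2 0
        simpa using this
      have hNinv : ∀ x ∈ N, β x ∈ N := by
        intro x hx
        refine ⟨hinv x hx.1, fun j => ?_⟩
        have := hx.2 (j + 1)
        rwa [pow_succ, MulAut.mul_apply] at this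
      have hNfix := IH N hND hNinv
      have hNp : ∀ x ∈ D, x ^ p ∈ N := by
        intro x hx
        refine ⟨D.pow_mem hx p, fun j => ?_⟩
        rw [map_pow]
        exact hMp _ (hpowinv j x hx)
      have hNc : ∀ x ∈ D, ∀ y ∈ D, x * y * x⁻¹ * y⁻¹ ∈ N := by
        intro x hx y hy
        refine ⟨D.mul_mem (D.mul_mem (D.mul_mem hx hy) (D.inv_mem hx)) (D.inv_mem hy), fun j => ?_⟩
        simp only [map_mul, map_inv]
        exact hMc _ (hpowinv j x hx) _ (hpowinv j y hy)
      have hNn : ∀ d ∈ D, ∀ x ∈ N, d * x * d⁻¹ ∈ N := by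
        intro d hd x hx
        refine ⟨D.mul_mem (D.mul_mem hd hx.1) (D.inv_mem hd), fun j => ?_⟩
        simp only [map_mul, map_inv]
        exact hMn _ (hpowinv j d hd) _ (hx.2 j)
      -- `N` is central in `D`
      have hNcent : ∀ c ∈ N, ∀ x ∈ D, Commute c x := by
        intro c hc
        have : D ≤ Subgroup.centralizer {c} := by
          rw [← heq, hK, Subgroup.closure_le]
          rintro _ ⟨x, hx, rfl⟩
          show x⁻¹ * β x ∈ Subgroup.centralizer {c}
          rw [Subgroup.mem_centralizer_singleton_iff]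
          have h1 := hNfix _ (hNn x hx c hc)
          rw [map_mul, map_mul, map_inv, hNfix c hc] at h1
          -- β x * c * (β x)⁻¹ = x * c * x⁻¹
          calc x⁻¹ * β x * c = x⁻¹ * (β x * c * (β x)⁻¹) * β x := by group
            _ = x⁻¹ * (x * c * x⁻¹) * β x := by rw [h1]
            _ = c * (x⁻¹ * β x) := by group
        intro x hx
        have := this hx
        rw [Subgroup.mem_centralizer_singleton_iff] at this
        exact this.symm
      -- generators are small
      have hgen : ∀ a ∈ D, β (a⁻¹ * β a) = a⁻¹ * β a := by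
        intro a ha
        have hx : a⁻¹ ∈ D := D.inv_mem ha
        have hy : β a ∈ D := hinv a ha
        set x := a⁻¹ with hxdef
        set y := β a with hydef
        set d := y * x * y⁻¹ * x⁻¹ with hd
        have hdN : d ∈ N := hNc y hy x hx
        have hdrel : y * x = d * (x * y) := by rw [hd]; group
        have hdx : Commute d x := hNcent d hdN x hx
        have hdy : Commute d y := hNcent d hdN y hy
        have hdp : d ^ p = 1 := by
          have h1 := pow_mul_comm_central hdrel hdy p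
          have h2 : Commute (y ^ p) x := hNcent _ (hNp y hy) x hx
          rw [h2.eq] at h1
          have h3 : 1 * (x * y ^ p) = d ^ p * (x * y ^ p) := by rw [one_mul]; exact h1
          exact (mul_right_cancel h3).symm
        have hfixpow : ∀ q : ℕ, p ∣ q → x ^ q * y ^ q = 1 := by
          rintro q ⟨r, rfl⟩
          have h1 : β (a ^ p) = a ^ p := hNfix _ (hNp a ha)
          rw [hxdef, hydef, inv_pow, ← map_pow, pow_mul, map_pow, h1, inv_mul_cancel]
        apply hsmall _ (D.mul_mem hx hy)
        by_cases hp2 : p = 2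
        · right
          refine ⟨hp2, ?_⟩
          rw [mul_pow_central hdrel hdx hdy 4, hfixpow 4 (by rw [hp2]; norm_num), mul_one]
          have : Nat.choose 4 2 = 2 * 3 := by decide
          rw [this, pow_mul, ← hp2, hdp, one_pow]
        · left
          rw [mul_pow_central hdrel hdx hdy p, hfixpow p dvd_rfl, mul_one]
          have h2 : 2 < p := lt_of_le_of_ne hp.two_le (Ne.symm hp2)
          obtain ⟨r, hr⟩ := hp.dvd_choose_self (by norm_num : 2 ≠ 0) h2
          rw [hr, pow_mul, hdp, one_pow]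
      -- conclude
      have : D ≤ (MonoidHom.eqLocus β.toMonoidHom (MonoidHom.id P)) := by
        rw [← heq, hK, Subgroup.closure_le]
        rintro _ ⟨a, ha, rfl⟩
        exact hgen a ha
      intro x hx
      exact this hx

end Cfsg.Agent.Lib.Helper88
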