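import Cfsg.Agent.Lib.Helper84.FusionAlperin
import Cfsg.Agent.Lib.Helper84.FusionEssential
import Cfsg.Agent.Lib.Helper84.ChainStab2
import Cfsg.Agent.Lib.Helper63.ClassTwo

set_option autoImplicit false

/-! Tools for essential subgroups inside extraspecial groups (helper88). -/

namespace Cfsg.Agent.Lib.Helper88

open Cfsg Cfsg.FusionSystem Cfsg.Agent.Lib.Helper84

section chain

variable {P : Type*} [Group P]

/-- The chain `⊥ ≤ W ≤ ⊤`. -/
def chainTwo (W : Subgroup P) : ℕ → Subgroup P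
  | 0 => ⊥
  | 1 => W
  | _ => ⊤

theorem chainTwo_mono (W : Subgroup P) : Monotone (chainTwo W) := by
  apply monotone_nat_of_le_succ
  intro n
  match n with
  | 0 => exact bot_le
  | 1 => exact le_top
  | (k + 2) => exact le_rfl

theorem mem_chainStab_chainTwo {W : Subgroup P} {α : MulAut P} (h1 : ∀ w ∈ W, α w = w)
    (h2 : ∀ x, x⁻¹ * α x ∈ W) : α ∈ chainStab (chainTwo W) (chainTwo_mono W) := by
  rw [mem_chainStab]
  intro i x hx
  match i with
  | 0 =>
    have hx' : x ∈ W := hx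
    have e1 : α x = x := h1 x hx'
    have e2 : α⁻¹ x = x := by
      conv_lhs => rw [← e1]
      simp
    rw [e1, e2, inv_mul_cancel]
    exact ⟨Subgroup.one_mem _, Subgroup.one_mem _⟩
  | 1 =>
    refine ⟨h2 x, ?_⟩
    have := W.inv_mem (h2 (α⁻¹ x))
    show x⁻¹ * α⁻¹ x ∈ W
    simpa using this
  | (k + 2) => exact ⟨trivial, trivial⟩

theorem isPGroup_chainStab_chainTwo [Finite P] {p : ℕ} [Fact p.Prime] (hP : IsPGroup p P)
    (W : Subgroup P) : IsPGroup p (chainStab (chainTwo W) (chainTwo_mono W)) :=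
  isPGroup_chainStab hP _ _ rfl 2 rfl

end chain

section classTwo

open Cfsg.Agent.Lib.Helper63

variable {G : Type*} [Group G]

/-- In a group of order at least `p⁴` whose centre has order `p` and contains all commutators,
every element of a proper abelian subgroup `A` commutes with some element outside `A`. -/
theorem exists_commuting_outside [Finite G] {p : ℕ} [Fact p.Prime]
    (hZ : CentralComm (Subgroup.center G)) (hcard : Nat.card (Subgroup.center G) = p)
    (h4 : p ^ 4 ≤ Nat.card G) (A : Subgroup G) (hA : ∀ a ∈ A, ∀ b ∈ A, a * b = b * a)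
    (hne : A ≠ ⊤) (a : G) (ha : a ∈ A) : ∃ x, x ∉ A ∧ x * a = a * x := by
  have hp : p.Prime := Fact.out
  by_contra hcon
  push Not at hcon
  have hCA : ∀ x, x * a = a * x → x ∈ A := fun x hx => by
    by_contra hxA
    exact hcon x hxA hx
  obtain ⟨x₀, hx₀⟩ : ∃ x₀, x₀ ∉ A := by
    by_contra h
    push Not at h
    exact hne (Subgroup.eq_top_iff' A |>.2 h)
  have hx₀a : x₀ * a ≠ a * x₀ := fun h => hx₀ (hCA x₀ h)
  have hCeq : ∀ u ∈ A, (∃ g : G, g * u ≠ u * g) → Nat.card G = p * Nat.card A →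
      Subgroup.centralizer {u} = A := by
    intro u hu hex hG
    obtain ⟨g, hg⟩ := hex
    have h1 := card_eq_prime_mul_card_centralizer hZ hcard ⊤ u ⟨g, trivial, hg⟩
    rw [Subgroup.card_top, top_inf_eq, hG] at h1
    have h2 : Nat.card A = Nat.card (Subgroup.centralizer {u}) :=
      Nat.eq_of_mul_eq_mul_left hp.pos h1
    symm
    apply Subgroup.eq_of_le_of_card_ge
    · intro b hb
      rw [Subgroup.mem_centralizer_singleton_iff]
      exact hA b hb u hu
    · exact h2.ge
  have hCa : Subgroup.centralizer {a} = A := by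
    apply le_antisymm
    · intro x hx
      exact hCA x (Subgroup.mem_centralizer_singleton_iff.1 hx)
    · intro b hb
      rw [Subgroup.mem_centralizer_singleton_iff]
      exact hA b hb a ha
  have c1 : Nat.card G = p * Nat.card A := by
    have h1 := card_eq_prime_mul_card_centralizer hZ hcard ⊤ a ⟨x₀, trivial, hx₀a⟩
    rwa [Subgroup.card_top, top_inf_eq, hCa] at h1
  have c2 : Nat.card A = p * Nat.card ↥(A ⊓ Subgroup.centralizer {x₀}) :=
    card_eq_prime_mul_card_centralizer hZ hcard A x₀ ⟨a, ha, fun h => hx₀a h.symm⟩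
  have c3 : A ⊓ Subgroup.centralizer {x₀} ≤ Subgroup.center G := by
    rintro u ⟨huA, hux⟩
    by_contra hu
    have hex : ∃ g : G, g * u ≠ u * g := by
      by_contra h
      push Not at h
      exact hu (Subgroup.mem_center_iff.2 h)
    have h5 := hCeq u huA hex c1
    apply hx₀
    rw [← h5, Subgroup.mem_centralizer_singleton_iff]
    exact (Subgroup.mem_centralizer_singleton_iff.1 hux).symm
  have c4 : Nat.card ↥(A ⊓ Subgroup.centralizer {x₀}) ≤ p := by
    rw [← hcard]
    exact Subgroup.card_le_of_le c3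
  have c5 : Nat.card G ≤ p * (p * p) := by
    rw [c1, c2]
    exact Nat.mul_le_mul_left _ (Nat.mul_le_mul_left _ c4)
  have c6 : p * (p * p) < p ^ 4 := by
    have : p ^ 4 = p * (p * (p * p)) := by ring
    rw [this]
    have h2 := hp.two_le
    have h3 : 0 < p * (p * p) := by positivity
    nlinarith
  omega

end classTwo

section pairs

variable {Ω : Type*} [Group Ω] {S : Subgroup Ω}

/-- If for every `g ∈ Aut_F(E)` some non-inner `t ∈ Aut_S(E)` and some conjugate `g s g⁻¹` of a
non-inner `s ∈ Aut_S(E)` lie in a common `p`-subgroup, then `E` is not essential. -/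
theorem not_essential_of_pairs [Finite S] {p : ℕ} [Fact p.Prime] (hS : IsPGroup p S)
    (F : FusionSystem S) (hF : F.IsSaturated p) {E : Subgroup Ω} (hE : F.IsEssential p E)
    (H : ∀ g ∈ F.autGroup E, ∃ t ∈ autInducedBy S E, t ∉ Inn E ∧ ∃ s ∈ autInducedBy S E,
      s ∉ Inn E ∧ ∃ D : Subgroup (MulAut E), IsPGroup p D ∧ t ∈ D ∧ g * s * g⁻¹ ∈ D) : False := by
  obtain ⟨hcen, hfn, hnorm, M, hM⟩ := hE
  have hES : E ≤ S := hcen.1
  obtain ⟨hfc, hfa, hrec⟩ := sat_fullyNormalized hS hF hfn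
  have hfin : Finite (F.autGroup E) := finite_autGroup F hES
  obtain ⟨-, R, hR⟩ := hfa
  have hIp : IsPGroup p ((Inn E).subgroupOf (F.autGroup E)) :=
    (isPGroup_inn hS hES).of_equiv (Subgroup.subgroupOfEquivOfLe (inn_le_autGroup F hES)).symm
  have hle := autInducedBy_le_autGroup F hES
  have hIT : (Inn E).subgroupOf (F.autGroup E) < R := by
    rw [hR]
    refine lt_of_le_of_ne ?_ ?_
    · intro x hx
      exact inn_le_autInducedBy hES (Subgroup.mem_subgroupOf.1 hx)
    · intro h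
      obtain ⟨t, ht, htI, -⟩ := H 1 (Subgroup.one_mem _)
      have h2 : (⟨t, hle ht⟩ : F.autGroup E) ∈ (Inn E).subgroupOf (F.autGroup E) := by
        rw [h]; exact ht
      exact htI (Subgroup.mem_subgroupOf.1 h2)
  rcases stronglyPEmbedded_dichotomy hIp R hIT with ⟨-, h2⟩ | ⟨h1, -⟩
  · exact h2 ⟨M, hM⟩
  · apply h1
    rw [Subgroup.eq_top_iff']
    intro g
    obtain ⟨t, ht, htI, s, hs, hsI, D, hD, htD, hsD⟩ := H g g.2
    obtain ⟨a, ha, haD⟩ := exists_conj_le_of_sylow (U := D ⊓ F.autGroup E) R hR inf_le_right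
      (hD.to_le inf_le_left)
    have hmemR : ∀ x : F.autGroup E, x ∈ R ↔ (x : MulAut E) ∈ autInducedBy S E := by
      intro x
      have : x ∈ R ↔ x ∈ (R : Subgroup (F.autGroup E)) := Iff.rfl
      rw [this, hR]
      exact Subgroup.mem_subgroupOf
    have m1 : (⟨a, ha⟩ : F.autGroup E) ∈ Subgroup.closure {α : F.autGroup E |
        ∃ t ∈ R, t ∉ (Inn E).subgroupOf (F.autGroup E) ∧ α * t * α⁻¹ ∈ R} := by
      apply Subgroup.subset_closure
      refine ⟨⟨t, hle ht⟩, (hmemR _).2 ht, htI, (hmemR _).2 ?_⟩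
      exact haD t ⟨htD, hle ht⟩
    have m2 : (⟨a, ha⟩ : F.autGroup E) * g ∈ Subgroup.closure {α : F.autGroup E |
        ∃ t ∈ R, t ∉ (Inn E).subgroupOf (F.autGroup E) ∧ α * t * α⁻¹ ∈ R} := by
      apply Subgroup.subset_closure
      refine ⟨⟨s, hle hs⟩, (hmemR _).2 hs, hsI, (hmemR _).2 ?_⟩
      have h3 := haD _ ⟨hsD, Subgroup.mul_mem _ (Subgroup.mul_mem _ g.2 (hle hs))
        (Subgroup.inv_mem _ g.2)⟩
      have h4 : a * ((g : MulAut E) * s * (g : MulAut E)⁻¹) * a⁻¹ =
          (a * g) * s * (a * (g : MulAut E))⁻¹ := by group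
      rw [h4] at h3
      exact h3
    have m3 := Subgroup.mul_mem _ (Subgroup.inv_mem _ m1) m2
    rwa [inv_mul_cancel_left] at m3

end pairs

end Cfsg.Agent.Lib.Helper88
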