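import Cfsg.Agent.Lib.Helper88.ExtraEss

set_option autoImplicit false

/-! Essential subgroups inside a subgroup `Q` all of whose commutators lie in a central subgroup of
order `p` (helper88). -/

namespace Cfsg.Agent.Lib.Helper88

open Cfsg Cfsg.FusionSystem Cfsg.Agent.Lib.Helper84 Cfsg.Agent.Lib.Helper63

section classTwo

variable {G : Type*} [Group G]

/-- If an element `a` of a proper abelian subgroup `A` commutes with no element outside `A`, then
the centre has index `p²`. -/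
theorem card_eq_of_no_commuting_outside [Finite G] {p : ℕ} [Fact p.Prime] {Z : Subgroup G}
    (hZ : CentralComm Z) (hcard : Nat.card Z = p)
    (A : Subgroup G) (hA : ∀ a ∈ A, ∀ b ∈ A, a * b = b * a)
    (hne : A ≠ ⊤) (a : G) (ha : a ∈ A) (hCA : ∀ x, x * a = a * x → x ∈ A) :
    Nat.card G = p * (p * Nat.card (Subgroup.center G)) := by
  have hp : p.Prime := Fact.out
  obtain ⟨x₀, hx₀⟩ : ∃ x₀, x₀ ∉ A := by
    by_contra h
    push Not at h
    exact hne (Subgroup.eq_top_iff' A |>.2 h)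
  have hx₀a : x₀ * a ≠ a * x₀ := fun h => hx₀ (hCA x₀ h)
  have hCeq : ∀ u ∈ A, (∃ g : G, g * u ≠ u * g) → Nat.card G = p * Nat.card A →
      Subgroup.centralizer {u} = A := by
    intro u hu hex hG
    obtain ⟨g, hg⟩ := hex
    have h1 := card_eq_prime_mul_card_centralizer hZ hcard ⊤ u ⟨g, trivial, hg⟩
    rw [Subgroup.card_top, top_inf_eq, hG] at h1
    have h2 : Nat.card A = Nat.card (Subgroup.centralizer {u}) :=
      Nat.eq_of_mul_eq_mul_left hp.pos h1
    symm
    apply Subgroup.eq_of_le_of_card_ge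
    · intro b hb
      rw [Subgroup.mem_centralizer_singleton_iff]
      exact hA b hb u hu
    · exact h2.ge
  have hCa : Subgroup.centralizer {a} = A := by
    apply le_antisymm
    · intro x hx
      exact hCA x (Subgroup.mem_centralizer_singleton_iff.1 hx)
    · intro b hb
      rw [Subgroup.mem_centralizer_singleton_iff]
      exact hA b hb a ha
  have c1 : Nat.card G = p * Nat.card A := by
    have h1 := card_eq_prime_mul_card_centralizer hZ hcard ⊤ a ⟨x₀, trivial, hx₀a⟩
    rwa [Subgroup.card_top, top_inf_eq, hCa] at h1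
  have c2 : Nat.card A = p * Nat.card ↥(A ⊓ Subgroup.centralizer {x₀}) :=
    card_eq_prime_mul_card_centralizer hZ hcard A x₀ ⟨a, ha, fun h => hx₀a h.symm⟩
  have c3 : A ⊓ Subgroup.centralizer {x₀} = Subgroup.center G := by
    apply le_antisymm
    · rintro u ⟨huA, hux⟩
      by_contra hu
      have hex : ∃ g : G, g * u ≠ u * g := by
        by_contra h
        push Not at h
        exact hu (Subgroup.mem_center_iff.2 h)
      have h5 := hCeq u huA hex c1
      apply hx₀
      rw [← h5, Subgroup.mem_centralizer_singleton_iff]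
      exact (Subgroup.mem_centralizer_singleton_iff.1 hux).symm
    · intro u hu
      have hu' := Subgroup.mem_center_iff.1 hu
      refine ⟨hCA u (hu' a).symm, ?_⟩
      show u ∈ Subgroup.centralizer {x₀}
      rw [Subgroup.mem_centralizer_singleton_iff]
      exact (hu' x₀).symm
  rw [c1, c2, c3]

end classTwo

variable {Ω : Type*} [Group Ω] {S : Subgroup Ω}

/-- An essential subgroup properly contained in a subgroup `Q` whose commutators lie in a central
subgroup `Z` of order `p` is abelian and is the centralizer in `Q` of one of its elements. -/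
theorem ess_in_classTwo [Finite S] {p : ℕ} [Fact p.Prime] (hS : IsPGroup p S)
    (F : FusionSystem S) (hF : F.IsSaturated p) (Q Z : Subgroup Ω) (hQS : Q ≤ S) (hZQ : Z ≤ Q)
    (hZcard : Nat.card Z = p) (hZmem : ∀ a ∈ Q, ∀ b ∈ Q, a * b * a⁻¹ * b⁻¹ ∈ Z)
    (hZc : ∀ z ∈ Z, ∀ a ∈ Q, a * z = z * a) (E : Subgroup Ω) (hEQ : E ≤ Q) (hne : E ≠ Q)
    (hE : F.IsEssential p E) :
    (∀ a ∈ E, ∀ b ∈ E, a * b = b * a) ∧ ∃ e ∈ E, ∀ x ∈ Q, x * e = e * x → x ∈ E := by
  have hpp : p.Prime := Fact.out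
  have hES : E ≤ S := hEQ.trans hQS
  have hfinQ : Finite Q := finite_of_le hQS
  have hfinE : Finite E := finite_of_le hES
  have hcen' : centralizerIn S E ≤ E := hE.1.2 E (isConj_refl F hES)
  have hrad := essential_radical hS F hE
  have hZE : Z ≤ E := by
    intro z hz
    apply hcen'
    refine ⟨hQS (hZQ hz), ?_⟩
    show z ∈ Subgroup.centralizer (E : Set Ω)
    rw [Subgroup.mem_centralizer_iff]
    intro e he
    exact hZc z hz e (hEQ he)
  have hconj : ∀ x ∈ Q, ∀ e ∈ E, x * e * x⁻¹ ∈ E := by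
    intro x hx e he
    have h1 := E.mul_mem (hZE (hZmem x hx e (hEQ he))) he
    simpa using h1
  have hQN : ∀ x ∈ Q, x ∈ Subgroup.normalizer (E : Set Ω) := by
    intro x hx
    apply mem_normalizer_of_conj_mem (hconj x hx)
    intro e he
    simpa using hconj x⁻¹ (Q.inv_mem hx) e he
  have hgen : ∀ c ∈ Z, c ≠ 1 → ∀ u ∈ Z, ∃ k : ℤ, c ^ k = u := by
    intro c hc hc1 u hu
    have h1 : (⟨u, hu⟩ : Z) ∈ Subgroup.zpowers (⟨c, hc⟩ : Z) :=
      mem_zpowers_of_prime_card hZcard (fun h => hc1 (congrArg Subtype.val h))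
    obtain ⟨k, hk⟩ := h1
    exact ⟨k, by simpa using congrArg Subtype.val hk⟩
  have hcomm2 : ∀ (x : Ω) (hx : x ∈ Q) (e : E),
      ((e⁻¹ * conjAut E x (hQN x hx) e : E) : Ω) ∈ Z := by
    intro x hx e
    have h1 := hZmem (e : Ω)⁻¹ (Q.inv_mem (hEQ e.2)) x hx
    have h2 : ((e⁻¹ * conjAut E x (hQN x hx) e : E) : Ω) = (e : Ω)⁻¹ * x * ((e : Ω)⁻¹)⁻¹ * x⁻¹ := by
      rw [Subgroup.coe_mul, conjAut_apply, Subgroup.coe_inv]
      group
    rw [h2]
    exact h1
  have hab : ∀ a ∈ E, ∀ b ∈ E, a * b = b * a := by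
    by_contra hab
    push Not at hab
    obtain ⟨a, ha, b, hb, hab⟩ := hab
    apply hne
    apply le_antisymm hEQ
    set ce : E := ⟨a, ha⟩ * ⟨b, hb⟩ * ⟨a, ha⟩⁻¹ * ⟨b, hb⟩⁻¹ with hce
    have hceZ : (ce : Ω) ∈ Z := hZmem a (hEQ ha) b (hEQ hb)
    have hce1 : (ce : Ω) ≠ 1 := by
      intro h
      apply hab
      have h1 : a * b * a⁻¹ * b⁻¹ = 1 := h
      have h2 : a * b * a⁻¹ = b := mul_inv_eq_one.mp h1
      exact mul_inv_eq_iff_eq_mul.mp h2
    set W : Subgroup E := Z.subgroupOf E with hW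
    have hinvW : ∀ α : MulAut E, ∀ w ∈ W, α w ∈ W := by
      intro α w hw
      obtain ⟨k, hk⟩ := hgen ce hceZ hce1 w hw
      have hk' : ce ^ k = w := Subtype.ext (by simpa using hk)
      rw [← hk', map_zpow]
      apply W.zpow_mem
      rw [hce, map_mul, map_mul, map_mul, map_inv, map_inv]
      exact hZmem _ (hEQ (α ⟨a, ha⟩).2) _ (hEQ (α ⟨b, hb⟩).2)
    have hinv : ∀ α ∈ F.autGroup E, ∀ i, ∀ x ∈ chainTwo W i, α x ∈ chainTwo W i := by
      intro α _ i x hx
      match i with
      | 0 =>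
        have : x = 1 := Subgroup.mem_bot.1 hx
        rw [this, map_one]
        exact Subgroup.one_mem _
      | 1 => exact hinvW α x hx
      | (k + 2) => trivial
    have hnormal := chainStab_normal (chainTwo W) (chainTwo_mono W) (F.autGroup E) hinv
    have hDp := isPGroup_chainStab_chainTwo (hS.to_le hES) W
    have hDcore : (chainStab (chainTwo W) (chainTwo_mono W)).subgroupOf (F.autGroup E) ≤
        pCore p (F.autGroup E) :=
      le_sSup ⟨hnormal, hDp.comap_of_injective _ (Subgroup.subtype_injective _)⟩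
    intro x hxQ
    apply mem_of_conjAut_mem_inn hcen' (hQS hxQ) hES (hQN x hxQ)
    rw [← hrad.2]
    refine ⟨⟨conjAut E x (hQN x hxQ), autInducedBy_le_autGroup F hES
      (conjAut_mem_autInducedBy _ (hQS hxQ))⟩, hDcore ?_, rfl⟩
    rw [Subgroup.mem_subgroupOf]
    apply mem_chainStab_chainTwo
    · intro w hw
      apply Subtype.ext
      rw [conjAut_apply, hZc w hw x hxQ, mul_inv_cancel_right]
    · intro e
      exact hcomm2 x hxQ e
  refine ⟨hab, ?_⟩
  by_contra hcon
  push Not at hcon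
  have hout : ∀ e : E, ∃ x ∈ Q, x ∉ E ∧ x * (e : Ω) = e * x := by
    intro e
    obtain ⟨x, hx, hxe, hxE⟩ := hcon e e.2
    exact ⟨x, hx, hxE, hxe⟩
  obtain ⟨z, hzZ, hz1⟩ : ∃ z ∈ Z, z ≠ 1 := by
    have : Finite Z := finite_of_le (hZQ.trans hQS)
    have : Nontrivial Z := by
      rw [← Finite.one_lt_card_iff_nontrivial, hZcard]
      exact hpp.one_lt
    obtain ⟨z, hz⟩ := exists_ne (1 : Z)
    exact ⟨z, z.2, fun h => hz (Subtype.ext h)⟩
  apply not_essential_of_pairs hS F hF hE
  intro g hg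
  set ze : E := ⟨z, hZE hzZ⟩ with hze
  obtain ⟨x, hxQ, hxE, hxc⟩ := hout (g ze)
  obtain ⟨y, hyQ, hyE, hyc⟩ := hout (g⁻¹ ze)
  set W : Subgroup E := Subgroup.closure {ze, g ze} with hW
  have hzeW : ze ∈ W := Subgroup.subset_closure (by simp)
  have hgzeW : g ze ∈ W := Subgroup.subset_closure (by simp)
  have hZpow : ∀ e : E, (e : Ω) ∈ Z → ∃ k : ℤ, ze ^ k = e := by
    intro e he
    obtain ⟨k, hk⟩ := hgen z hzZ hz1 e he
    exact ⟨k, Subtype.ext (by simpa using hk)⟩
  have hZW : ∀ e : E, (e : Ω) ∈ Z → e ∈ W := by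
    intro e he
    obtain ⟨k, rfl⟩ := hZpow e he
    exact W.zpow_mem hzeW k
  have hgZW : ∀ e : E, (e : Ω) ∈ Z → g e ∈ W := by
    intro e he
    obtain ⟨k, rfl⟩ := hZpow e he
    rw [map_zpow]
    exact W.zpow_mem hgzeW k
  have hfix : ∀ α : MulAut E, α ze = ze → α (g ze) = g ze → ∀ w ∈ W, α w = w := by
    intro α h1 h2
    have : W ≤ MonoidHom.eqLocus α.toMonoidHom (MonoidHom.id E) := by
      rw [hW, Subgroup.closure_le]
      rintro w (rfl | rfl)
      · exact h1
      · exact h2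
    intro w hw
    exact this hw
  have hfixc : ∀ (x : Ω) (hx : x ∈ Q) (e : E), x * (e : Ω) = e * x →
      conjAut E x (hQN x hx) e = e := by
    intro x hx e h
    apply Subtype.ext
    rw [conjAut_apply, h, mul_inv_cancel_right]
  refine ⟨conjAut E x (hQN x hxQ), conjAut_mem_autInducedBy _ (hQS hxQ),
    fun h => hxE (mem_of_conjAut_mem_inn hcen' (hQS hxQ) hES _ h),
    conjAut E y (hQN y hyQ), conjAut_mem_autInducedBy _ (hQS hyQ),
    fun h => hyE (mem_of_conjAut_mem_inn hcen' (hQS hyQ) hES _ h),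
    chainStab (chainTwo W) (chainTwo_mono W), isPGroup_chainStab_chainTwo (hS.to_le hES) W,
    ?_, ?_⟩
  · apply mem_chainStab_chainTwo
    · apply hfix
      · exact hfixc x hxQ ze (hZc z hzZ x hxQ)
      · exact hfixc x hxQ _ hxc
    · intro e
      exact hZW _ (hcomm2 x hxQ e)
  · apply mem_chainStab_chainTwo
    · apply hfix
      · rw [MulAut.mul_apply, MulAut.mul_apply, hfixc y hyQ _ hyc, MulAut.apply_inv_self]
      · rw [MulAut.mul_apply, MulAut.mul_apply, MulAut.inv_apply_self,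
          hfixc y hyQ ze (hZc z hzZ y hyQ)]
    · intro e
      have h1 := hgZW _ (hcomm2 y hyQ (g⁻¹ e))
      rw [map_mul, map_inv, MulAut.apply_inv_self] at h1
      exact h1

end Cfsg.Agent.Lib.Helper88
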