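import Mathlib
import Cfsg.Agent.Lib.Helper88.FusNilp5

set_option autoImplicit false

/-! Nilpotency criteria relative to a strongly closed subgroup: basic lemmas (helper88). -/

universe u

namespace Cfsg.Agent.Lib.Helper88

open Cfsg Cfsg.FusionSystem Cfsg.Agent.Lib.Helper84 Cfsg.Agent.Lib.Helper85 Cfsg.Agent.Lib.Lead

section basic
variable {Ω : Type*} [Group Ω] {S : Subgroup Ω}

theorem pf_of_ni_bot {p : ℕ} {F : FusionSystem S} (h : NI p F ⊥) : PF p F := by
  intro P hP α hα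
  refine h P bot_le (fun x hx => ⟨hP hx, ?_⟩) α hα ?_
  · show x ∈ Subgroup.normalizer ((⊥ : Subgroup Ω) : Set Ω)
    rw [Subgroup.mem_normalizer_iff]
    intro y
    simp [Subgroup.mem_bot]
  · intro x hx
    have h1 : x = 1 := Subtype.ext (Subgroup.mem_bot.1 hx)
    rw [h1, map_one]
    exact Subgroup.one_mem _

theorem stronglyClosed_conj_mem {F : FusionSystem S} {D : Subgroup Ω} (hD : F.StronglyClosed D)
    {s : Ω} (hs : s ∈ S) {x : Ω} (hx : x ∈ D) : s * x * s⁻¹ ∈ D :=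
  hD.2 _ le_rfl (conjHom _ s) (F.conj_mem hD.1 hs) ⟨x, hx⟩

theorem stronglyClosed_le_normalizer {F : FusionSystem S} {D : Subgroup Ω}
    (hD : F.StronglyClosed D) : S ≤ Subgroup.normalizer (D : Set Ω) := by
  intro s hs
  apply mem_normalizer_of_conj_mem
  · intro x hx
    exact stronglyClosed_conj_mem hD hs hx
  · intro x hx
    have := stronglyClosed_conj_mem hD (S.inv_mem hs) hx
    rwa [inv_inv] at this

theorem stronglyClosed_aut_mem {F : FusionSystem S} {D : Subgroup Ω} (hD : F.StronglyClosed D)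
    {P : Subgroup Ω} (hP : P ≤ S) {α : MulAut P} (hα : α ∈ F.autGroup P) (x : P)
    (hx : (x : Ω) ∈ D) : ((α x : P) : Ω) ∈ D := by
  rw [mem_autGroup_iff _ hP] at hα
  exact hD.2 (P ⊓ D) inf_le_right _ (Cfsg.Agent.Lib.Helper84.restrict_mem F hα inf_le_left) ⟨x, x.2, hx⟩

theorem stronglyClosed_of_subsystem {S' : Subgroup Ω} {E : FusionSystem S'} {F : FusionSystem S}
    (h : E.IsSubsystemOf F) {D : Subgroup Ω} (hD : F.StronglyClosed D) :
    E.StronglyClosed (D ⊓ S') := by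
  refine ⟨inf_le_right, fun R hR φ hφ x => ⟨?_, (E.le_of_mem hφ).2 x⟩⟩
  exact hD.2 R (hR.trans inf_le_left) φ (h R hφ) x

end basic

section functor
variable {Ω : Type u} [Group Ω] {S : Subgroup Ω}

/-- automorphisms preserving `D` preserve `W(D)` -/
theorem inducedFunctor_aut_mem {p : ℕ} {W : ∀ (Q : Type u) [Group Q], Subgroup Q}
    (hW : IsCharPFunctor p W) {D P : Subgroup Ω} [Finite D] (hDp : IsPGroup p D) (hDP : D ≤ P)
    (α : MulAut P) (hαD : ∀ x : P, (x : Ω) ∈ D → ((α x : P) : Ω) ∈ D) (x : P)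
    (hx : (x : Ω) ∈ inducedFunctor W D) : ((α x : P) : Ω) ∈ inducedFunctor W D := by
  obtain ⟨e, he⟩ : ∃ e : MulAut D, ∀ d : D, ((e d : D) : Ω) = (α ⟨d, hDP d.2⟩ : P) :=
    ⟨autOfHom ((P.subtype.comp α.toMonoidHom).comp (Subgroup.inclusion hDP))
      (by
        intro a b hab
        have h1 : α ⟨a, hDP a.2⟩ = α ⟨b, hDP b.2⟩ := Subtype.ext hab
        exact Subtype.ext (congrArg (fun q : P => (q : Ω)) (α.injective h1)))
      (fun d => hαD _ d.2), fun _ => rfl⟩
  have h := hW.2 D D hDp e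
  obtain ⟨w, hw, hwx⟩ := hx
  have h1 : e w ∈ W D := by
    rw [← h]
    exact ⟨w, hw, rfl⟩
  refine ⟨e w, h1, ?_⟩
  show ((e w : D) : Ω) = _
  rw [he]
  congr 2
  exact Subtype.ext hwx

theorem NI.of_functor [Finite S] {p : ℕ} {W : ∀ (Q : Type u) [Group Q], Subgroup Q}
    (hW : IsCharPFunctor p W) (hS : IsPGroup p S) {F : FusionSystem S} {D : Subgroup Ω}
    (hDS : D ≤ S) (h : NI p F (inducedFunctor W D)) : NI p F D := by
  have : Finite D := finite_of_le hDS
  have hDp : IsPGroup p D := hS.to_le hDS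
  intro P hDP hP α hα hαD
  exact h P ((inducedFunctor_le D).trans hDP)
    (fun x hx => ⟨(hP hx).1, normalizer_le_normalizer_inducedFunctor hW D hDp (hP hx).2⟩) α hα
    (fun x hx => inducedFunctor_aut_mem hW hDp hDP α hαD x hx)

end functor

end Cfsg.Agent.Lib.Helper88
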