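import Mathlib
import Cfsg.Agent.Lib.Helper88.FusNilpRel1
import Cfsg.Agent.Lib.Helper86.Quot

set_option autoImplicit false

/-! Nilpotency criteria relative to a strongly closed subgroup: quotients and transport (helper88). -/

namespace Cfsg.Agent.Lib.Helper88

open Cfsg Cfsg.FusionSystem Cfsg.Agent.Lib.Helper84 Cfsg.Agent.Lib.Helper85 Cfsg.Agent.Lib.Lead
open scoped commutatorElement

variable {Ω : Type*} [Group Ω] {S : Subgroup Ω} {Ω' : Type*} [Group Ω'] {S' : Subgroup Ω'}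

/-- If the target of a morphism has only `p`-automorphisms then a `p`-power of every automorphism
acts trivially modulo the kernel. -/
theorem exists_pow_trivial_mod [Finite S] {p : ℕ} {F : FusionSystem S} {Eb : FusionSystem S'}
    {θ : S →* Ω'} (hmor : F.IsMorphism Eb θ) (hpf : PF p Eb) {P : Subgroup Ω} (hP : P ≤ S)
    {α : MulAut P} (hα : α ∈ F.autGroup P) :
    ∃ k : ℕ, ∀ x : P, θ ⟨((α ^ p ^ k) x : P), hP ((α ^ p ^ k) x).2⟩ = θ ⟨x, hP x.2⟩ := by
  rw [mem_autGroup_iff _ hP] at hα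
  obtain ⟨φ', hφ', hP0, hφS, hP', hind⟩ := hmor.2 P _ hα
  have hind' : ∀ x : P, φ' ⟨θ ⟨x, hP x.2⟩, hP' x⟩ = θ ⟨(α x : P), hP (α x).2⟩ := hind
  have hPb : imageAlong θ P ≤ S' := (Eb.le_of_mem hφ').1
  have hfin : Finite ↥(imageAlong θ P) := by
    have : Finite ↥(P.subgroupOf S) := inferInstance
    unfold imageAlong
    exact Finite.of_surjective (fun x : ↥(P.subgroupOf S) =>
      (⟨θ x, ⟨x, x.2, rfl⟩⟩ : ↥((P.subgroupOf S).map θ))) (by
        rintro ⟨_, x, hx, rfl⟩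
        exact ⟨⟨x, hx⟩, rfl⟩)
  have hφP : ∀ y, φ' y ∈ imageAlong θ P := by
    rintro ⟨_, x, hx, rfl⟩
    have h1 := hind' ⟨x, hx⟩
    have h2 : (⟨θ ⟨((⟨x, hx⟩ : P) : Ω), hP hx⟩, hP' ⟨x, hx⟩⟩ : ↥(imageAlong θ P)) =
        ⟨θ x, ⟨x, hx, rfl⟩⟩ := rfl
    rw [h2] at h1
    rw [h1]
    exact ⟨⟨(α ⟨x, hx⟩ : P), hP (α ⟨x, hx⟩).2⟩, (α ⟨x, hx⟩).2, rfl⟩
  obtain ⟨αb, hαb⟩ : ∃ αb : MulAut ↥(imageAlong θ P), ∀ y, ((αb y : ↥(imageAlong θ P)) : Ω') = φ' y :=
    ⟨autOfHom φ' (Eb.injective_of_mem hφ') hφP, fun _ => rfl⟩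
  have hαE : αb ∈ Eb.autGroup (imageAlong θ P) := by
    rw [mem_autGroup_iff _ hPb]
    have : (imageAlong θ P).subtype.comp αb.toMonoidHom = φ' := by
      ext y
      exact hαb y
    unfold Mor
    rw [this]
    exact hφ'
  obtain ⟨k, hk⟩ := hpf _ hPb αb hαE
  have hpow : ∀ (n : ℕ) (x : P),
      (((αb ^ n) ⟨θ ⟨x, hP x.2⟩, hP' x⟩ : ↥(imageAlong θ P)) : Ω') =
        θ ⟨((α ^ n) x : P), hP ((α ^ n) x).2⟩ := by
    intro n
    induction n with
    | zero => intro x; rfl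
    | succ n ih =>
      intro x
      rw [pow_succ, MulAut.mul_apply, pow_succ, MulAut.mul_apply, ← ih (α x)]
      congr 2
      apply Subtype.ext
      rw [hαb, hind']
  refine ⟨k, fun x => ?_⟩
  rw [← hpow, hk]
  rfl

/-- If `F` is not nilpotent then some nontrivial subgroup of the strongly closed subgroup `D`
has a non-nilpotent normalizer. -/
theorem exists_not_ni_le [Finite S] {p : ℕ} [Fact p.Prime] (hS : IsPGroup p S)
    {F : FusionSystem S} (hF : F.IsSaturated p) {D : Subgroup Ω} (hD : F.StronglyClosed D)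
    (hDne : D ≠ ⊥) (h : ¬ PF p F) : ∃ U : Subgroup Ω, U ≤ D ∧ U ≠ ⊥ ∧ ¬ NI p F U := by
  by_contra hall
  push Not at hall
  apply h
  intro P hP α hα
  by_cases hPD : P ⊓ D = ⊥
  · have hn : (D.subgroupOf S).Normal :=
      Cfsg.Agent.Lib.Helper86.normal_subgroupOf_of_stronglyClosed hD
    have hker : ∀ s : S, QuotientGroup.mk' (D.subgroupOf S) s = 1 ↔ (s : Ω) ∈ D :=
      fun s => QuotientGroup.eq_one_iff s
    have hsurj := QuotientGroup.mk'_surjective (D.subgroupOf S)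
    obtain ⟨Eb, hEb⟩ := exists_factorSystem F D hD
      (QuotientGroup.mk' (D.subgroupOf S)) hker (MonoidHom.range_eq_top.2 hsurj)
    have hmor := (Cfsg.Agent.S5134.result p hS F hF D hD _ Eb hEb).1
    have hpre : preimageAlong (QuotientGroup.mk' (D.subgroupOf S)) ⊥ = D := by
      ext x
      rw [mem_preimageAlong]
      constructor
      · rintro ⟨hx, h1⟩
        exact (hker _).1 (Subgroup.mem_bot.1 h1)
      · intro hx
        exact ⟨hD.1 hx, Subgroup.mem_bot.2 ((hker ⟨x, hD.1 hx⟩).2 hx)⟩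
    have hpf : PF p Eb := by
      apply pf_of_ni_bot
      apply NI.factor hEb
      rw [hpre]
      exact hall D le_rfl hDne
    obtain ⟨k, hk⟩ := exists_pow_trivial_mod hmor hpf hP hα
    refine ⟨k, ?_⟩
    ext x
    have h1 := hk x
    have h2 : (⟨((α ^ p ^ k) x : P), hP ((α ^ p ^ k) x).2⟩ : S) * (⟨x, hP x.2⟩ : S)⁻¹ ∈
        D.subgroupOf S := by
      rw [← QuotientGroup.eq_one_iff]
      show QuotientGroup.mk' (D.subgroupOf S) _ = 1
      rw [map_mul, map_inv, h1, mul_inv_cancel]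
    have h3 : (((α ^ p ^ k) x : P) : Ω) * (x : Ω)⁻¹ ∈ P ⊓ D :=
      ⟨P.mul_mem ((α ^ p ^ k) x).2 (P.inv_mem x.2), h2⟩
    rw [hPD, Subgroup.mem_bot, mul_inv_eq_one] at h3
    exact h3
  · refine hall (P ⊓ D) inf_le_right hPD P inf_le_left (fun x hx => ⟨hP hx, ?_⟩) α hα
      (fun x hx => ⟨(α x).2, stronglyClosed_aut_mem hD hP hα x hx.2⟩)
    apply mem_normalizer_of_conj_mem
    · intro y hy
      exact ⟨P.mul_mem (P.mul_mem hx hy.1) (P.inv_mem hx),
        stronglyClosed_conj_mem hD (hP hx) hy.2⟩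
    · intro y hy
      refine ⟨P.mul_mem (P.mul_mem (P.inv_mem hx) hy.1) hx, ?_⟩
      have := stronglyClosed_conj_mem hD (S.inv_mem (hP hx)) hy.2
      rwa [inv_inv] at this

/-- transport to a fully normalized conjugate, keeping track of a strongly closed subgroup -/
theorem exists_fn_not_ni_rel [Finite S] {p : ℕ} [Fact p.Prime] (hS : IsPGroup p S)
    {F : FusionSystem S} (hF : F.IsSaturated p) {D : Subgroup Ω} (hD : F.StronglyClosed D)
    {U : Subgroup Ω} (hU : U ≤ D) (h : ¬ NI p F U) :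
    ∃ U' : Subgroup Ω, U' ≤ D ∧ F.IsFullyNormalized U' ∧ F.IsConj U U' ∧ ¬ NI p F U' ∧
      Nat.card ↥(D ⊓ normalizerIn S U) ≤ Nat.card ↥(D ⊓ normalizerIn S U') := by
  have hUS : U ≤ S := hU.trans hD.1
  obtain ⟨U', hconj, hfn⟩ := exists_fullyNormalized F hUS
  obtain ⟨-, h₁, h₂⟩ := sat_fullyNormalized hS hF hfn
  obtain ⟨φ, hφ, hφN, hφU⟩ := exists_normalizer_hom hS F h₁ h₂ hconj
  have hφD : ∀ x : normalizerIn S U, (x : Ω) ∈ D → φ x ∈ D := by
    intro x hx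
    exact hD.2 (normalizerIn S U ⊓ D) inf_le_right _
      (Cfsg.Agent.Lib.Helper84.restrict_mem F hφ inf_le_left) ⟨x, x.2, hx⟩
  refine ⟨U', ?_, hfn, hconj, fun hNI => h ?_, ?_⟩
  · rw [← hφU]
    rintro _ ⟨x, hx, rfl⟩
    exact hφD x (hU hx)
  · intro P hUP hP α hα hαU
    have he := mor_restrictEquiv F hφ hP rfl
    obtain ⟨e, hedef⟩ : ∃ e : P ≃* ↥((P.subgroupOf (normalizerIn S U)).map φ),
      e = restrictEquiv φ (F.injective_of_mem hφ) hP rfl := ⟨_, rfl⟩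
    rw [← hedef] at he
    have he_apply : ∀ x : P, ((e x : ↥((P.subgroupOf (normalizerIn S U)).map φ)) : Ω) =
        φ ⟨x, hP x.2⟩ := by
      intro x
      rw [hedef]
      rfl
    obtain ⟨k, hk⟩ := hNI ((P.subgroupOf (normalizerIn S U)).map φ)
      (by
        rw [← hφU]
        exact Subgroup.map_mono (Subgroup.comap_mono hUP))
      (by
        rintro _ ⟨x, -, rfl⟩
        exact hφN x)
      (MulAut.congr e α) (congr_mem_autGroup he hα)
      (by
        intro x' hx'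
        rw [congr_apply_apply, he_apply, ← hφU]
        rw [← hφU] at hx'
        obtain ⟨u, hu, hux⟩ := hx'
        have h1 : (⟨(e.symm x' : P), hP (e.symm x').2⟩ : normalizerIn S U) = u := by
          apply F.injective_of_mem hφ
          rw [hux, ← he_apply, MulEquiv.apply_symm_apply]
        have h2 : ((e.symm x' : P) : Ω) ∈ U := by
          have : ((e.symm x' : P) : Ω) = u := congrArg Subtype.val h1
          rw [this]
          exact hu
        exact ⟨_, hαU _ h2, rfl⟩)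
    refine ⟨k, ?_⟩
    apply (MulAut.congr e).injective
    rw [map_pow, hk, map_one]
  · have : Finite ↥(D ⊓ normalizerIn S U') := finite_of_le (inf_le_left.trans hD.1)
    apply Nat.card_le_card_of_injective
      (fun x : ↥(D ⊓ normalizerIn S U) =>
        (⟨φ ⟨x, x.2.2⟩, hφD ⟨x, x.2.2⟩ x.2.1, hφN _⟩ : ↥(D ⊓ normalizerIn S U')))
    intro a b hab
    have h1 : φ ⟨a, a.2.2⟩ = φ ⟨b, b.2.2⟩ := congrArg Subtype.val hab
    have h2 := F.injective_of_mem hφ h1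
    exact Subtype.ext (congrArg (fun s : normalizerIn S U => (s : Ω)) h2)

/-- If the factor system modulo `Q` is nilpotent, then every normal subgroup of `S` containing `Q`
is strongly closed. -/
theorem stronglyClosed_of_factor_pf [Finite S] {p : ℕ} [Fact p.Prime] (hS : IsPGroup p S)
    {E : FusionSystem S} (hE : E.IsSaturated p) {Q : Subgroup Ω} (hQ : E.StronglyClosed Q)
    {θ : S →* Ω'} {Eb : FusionSystem S'} (hEb : E.IsFactorSystem Q θ Eb) (hpf : PF p Eb)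
    {Z : Subgroup Ω} (hQZ : Q ≤ Z) (hZS : Z ≤ S) (hZn : S ≤ Subgroup.normalizer (Z : Set Ω)) :
    E.StronglyClosed Z := by
  have hfin := Cfsg.Agent.Lib.Helper86.factor_finite hEb
  have hpG := Cfsg.Agent.Lib.Helper86.factor_isPGroup hS hEb
  have hsat := Cfsg.Agent.Lib.Helper86.factor_saturated hS E hE hQ _ Eb hEb
  have hinner := hpf.eq_inner hpG hsat
  have hmor := (Cfsg.Agent.S5134.result p hS E hE Q hQ _ Eb hEb).1
  have hker := hEb.2.1
  have hrange := hEb.2.2.1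
  refine ⟨hZS, fun R hR φ hφ x => ?_⟩
  obtain ⟨φ', hφ', hP, hφS, hP', hind⟩ := hmor.2 R φ hφ
  rw [hinner] at hφ'
  obtain ⟨-, g, hg, hg'⟩ := hφ'
  rw [← hrange] at hg
  obtain ⟨s, rfl⟩ := hg
  have h1 : θ ⟨φ x, hφS x⟩ = θ (s * ⟨x, hP x.2⟩ * s⁻¹) := by
    rw [← hind x, hg', map_mul, map_mul, map_inv]
  have h2 : θ (⟨φ x, hφS x⟩ * (s * ⟨x, hP x.2⟩ * s⁻¹)⁻¹) = 1 := by
    rw [map_mul, map_inv, h1, mul_inv_cancel]
  have h3 := hQZ ((hker _).1 h2)
  have h4 : (s : Ω) * x * (s : Ω)⁻¹ ∈ Z := conj_mem_of_mem_normalizer (hZn s.2) (hR x.2)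
  have h5 := Z.mul_mem h3 h4
  have h6 : ((⟨φ x, hφS x⟩ * (s * ⟨x, hP x.2⟩ * s⁻¹)⁻¹ : S) : Ω) * ((s : Ω) * x * (s : Ω)⁻¹) = φ x := by
    show φ x * ((s : Ω) * x * (s : Ω)⁻¹)⁻¹ * ((s : Ω) * x * (s : Ω)⁻¹) = φ x
    rw [inv_mul_cancel_right]
  rwa [h6] at h5

end Cfsg.Agent.Lib.Helper88
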