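import Mathlib
import Cfsg.Agent.Lib.Helper88.FusNilpRel2

set_option autoImplicit false

/-! Nilpotency criteria relative to a strongly closed subgroup: reduction to the constrained case
(helper88). -/

universe u

namespace Cfsg.Agent.Lib.Helper88

open Cfsg Cfsg.FusionSystem Cfsg.Agent.Lib.Helper84 Cfsg.Agent.Lib.Helper85 Cfsg.Agent.Lib.Lead
open scoped commutatorElement

/-- If all normal subgroups of `S` containing `O_p(E)` are strongly closed then `O_p(E)` is
centric. -/
theorem centralizerIn_core_le' {Ω : Type*} [Group Ω] {S : Subgroup Ω} [Finite S] {p : ℕ}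
    [Fact p.Prime] (hS : IsPGroup p S)
    (E : FusionSystem S) (hE : E.IsSaturated p)
    (hsc : ∀ Z : Subgroup Ω, E.core ≤ Z → Z ≤ S → S ≤ Subgroup.normalizer (Z : Set Ω) →
      E.StronglyClosed Z) : centralizerIn S E.core ≤ E.core := by
  have hQ : E.IsNormal E.core := isNormal_core E
  have hQsc := Cfsg.Agent.Lib.Helper86.stronglyClosed_of_isNormal hQ
  have hn : ((E.core).subgroupOf S).Normal :=
    Cfsg.Agent.Lib.Helper86.normal_subgroupOf_of_stronglyClosed hQsc
  obtain ⟨θ, hθ⟩ : ∃ θ : S →* S ⧸ (E.core).subgroupOf S,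
    θ = QuotientGroup.mk' ((E.core).subgroupOf S) := ⟨_, rfl⟩
  have hker : ∀ s : S, θ s = 1 ↔ (s : Ω) ∈ E.core := by
    intro s
    rw [hθ]
    exact QuotientGroup.eq_one_iff s
  have hθsurj : Function.Surjective θ := hθ ▸ QuotientGroup.mk'_surjective _
  have hCsc := Cfsg.Agent.Lib.Helper86.stronglyClosed_centralizerIn_of_isNormal hQ
  -- the preimage of the centre is strongly closed
  have hD₁ : E.StronglyClosed (preimageAlong θ (Subgroup.center _)) := by
    apply hsc
    · exact Cfsg.Agent.Lib.Helper86.le_preimageAlong_of_ker hQ.1 hker _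
    · exact preimageAlong_le θ _
    · intro s hs
      have : Finite ↥(preimageAlong θ (Subgroup.center (S ⧸ (E.core).subgroupOf S))) :=
        finite_of_le (preimageAlong_le _ _)
      apply mem_normalizer_of_finite
      intro t ht
      obtain ⟨h3, h4⟩ := mem_preimageAlong.1 ht
      rw [mem_preimageAlong]
      refine ⟨S.mul_mem (S.mul_mem hs h3) (S.inv_mem hs), ?_⟩
      have e : (⟨s * t * s⁻¹, S.mul_mem (S.mul_mem hs h3) (S.inv_mem hs)⟩ : S) =
          ⟨s, hs⟩ * ⟨t, h3⟩ * ⟨s, hs⟩⁻¹ := rfl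
      rw [e, map_mul, map_mul, map_inv]
      exact (inferInstance : (Subgroup.center (S ⧸ (E.core).subgroupOf S)).Normal).conj_mem _ h4 _
  have hD := Cfsg.Agent.Lib.Helper86.stronglyClosed_inf hD₁ hCsc
  have hDQ : preimageAlong θ (Subgroup.center _) ⊓ centralizerIn S E.core ≤
      Subgroup.centralizer ((E.core : Subgroup Ω) : Set Ω) := fun x hx => hx.2.2
  have hab : ⁅preimageAlong θ (Subgroup.center _) ⊓ centralizerIn S E.core,
      preimageAlong θ (Subgroup.center _) ⊓ centralizerIn S E.core⁆ ≤ E.core := by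
    rw [Subgroup.commutator_le]
    intro a ha b hb
    obtain ⟨h1, h2⟩ := mem_preimageAlong.1 ha.1
    obtain ⟨h3, -⟩ := mem_preimageAlong.1 hb.1
    have h4 : θ (⁅(⟨a, h1⟩ : S), ⟨b, h3⟩⁆) = 1 := by
      rw [map_commutatorElement, commutatorElement_eq_one_iff_mul_comm]
      exact (Subgroup.mem_center_iff.1 h2 _).symm
    exact (hker _).1 h4
  have hnorm := Cfsg.Agent.Lib.Helper86.isNormal_sup_of_centralizing hS E hE hQ hD hDQ hab
  have hle : preimageAlong θ (Subgroup.center _) ⊓ centralizerIn S E.core ≤ E.core :=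
    le_sup_left.trans (le_sSup hnorm)
  by_contra hcon
  obtain ⟨c₀, hc₀, hc₀Q⟩ := SetLike.not_le_iff_exists.1 hcon
  have hCn : ((centralizerIn S E.core).subgroupOf S).Normal :=
    Cfsg.Agent.Lib.Helper86.normal_subgroupOf_of_stronglyClosed hCsc
  have hNn : (((centralizerIn S E.core).subgroupOf S).map θ).Normal := hCn.map θ hθsurj
  have hNne : ((centralizerIn S E.core).subgroupOf S).map θ ≠ ⊥ := by
    intro h
    have h1 : θ ⟨c₀, hc₀.1⟩ ∈ ((centralizerIn S E.core).subgroupOf S).map θ :=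
      ⟨⟨c₀, hc₀.1⟩, hc₀, rfl⟩
    rw [h, Subgroup.mem_bot] at h1
    exact hc₀Q ((hker _).1 h1)
  have hpG' : IsPGroup p (S ⧸ (E.core).subgroupOf S) :=
    hS.of_surjective θ hθsurj
  obtain ⟨z, ⟨c, hc, rfl⟩, hzc, hz1⟩ :=
    Cfsg.Agent.Lib.Helper53.exists_mem_center_of_normal hpG' _ hNne
  apply hz1
  rw [hker]
  apply hle
  exact ⟨mem_preimageAlong.2 ⟨c.2, hzc⟩, hc⟩

/-- the constrainedness step of the relative reduction -/
theorem constrained_rel {Ω : Type u} [Group Ω] {S : Subgroup Ω} [Finite S] {p : ℕ}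
    [Fact p.Prime] (hS : IsPGroup p S) (W : ∀ (Q : Type u) [Group Q], Subgroup Q)
    (hW : IsCharPFunctor p W) (E : FusionSystem S) (hE : E.IsSaturated p)
    (IH : ∀ (Ω' : Type u) [Group Ω'] (S' : Subgroup Ω') [Finite S'], Nat.card S' < Nat.card S →
      IsPGroup p S' → ∀ F' : FusionSystem S', F'.IsSaturated p → ∀ D' : Subgroup Ω',
      F'.StronglyClosed D' → NI p F' (inducedFunctor W D') → PF p F')
    {Q D : Subgroup Ω} (hQ : E.IsNormal Q) (hQne : Q ≠ ⊥) (hD : E.StronglyClosed D) (hQD : Q < D)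
    (hT : ∀ T : Subgroup Ω, Q < T → T ≤ D → S ≤ Subgroup.normalizer (T : Set Ω) → NI p E T) :
    E.IsConstrained p := by
  have hQsc := Cfsg.Agent.Lib.Helper86.stronglyClosed_of_isNormal hQ
  have hn : (Q.subgroupOf S).Normal :=
    Cfsg.Agent.Lib.Helper86.normal_subgroupOf_of_stronglyClosed hQsc
  have hker : ∀ s : S, QuotientGroup.mk' (Q.subgroupOf S) s = 1 ↔ (s : Ω) ∈ Q :=
    fun s => QuotientGroup.eq_one_iff s
  have hsurj := QuotientGroup.mk'_surjective (Q.subgroupOf S)
  obtain ⟨Eb, hEb⟩ := exists_factorSystem E Q hQsc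
    (QuotientGroup.mk' (Q.subgroupOf S)) hker (MonoidHom.range_eq_top.2 hsurj)
  obtain ⟨θ, hθ⟩ : ∃ θ : S →* S ⧸ Q.subgroupOf S, θ = QuotientGroup.mk' (Q.subgroupOf S) :=
    ⟨_, rfl⟩
  rw [← hθ] at hker hsurj hEb
  have hfin := Cfsg.Agent.Lib.Helper86.factor_finite hEb
  have hpG := Cfsg.Agent.Lib.Helper86.factor_isPGroup hS hEb
  have hsat := Cfsg.Agent.Lib.Helper86.factor_saturated hS E hE hQsc _ Eb hEb
  have hcard : Nat.card (⊤ : Subgroup (S ⧸ Q.subgroupOf S)) < Nat.card S := by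
    rw [Subgroup.card_top]
    apply card_quotient_lt_of_ne_bot
    intro h
    apply hQne
    rw [eq_bot_iff]
    intro x hx
    have h1 : (⟨x, hQ.1 hx⟩ : S) ∈ Q.subgroupOf S := hx
    rw [h, Subgroup.mem_bot] at h1
    exact Subgroup.mem_bot.2 (congrArg Subtype.val h1)
  have hDb := Cfsg.Agent.Lib.Helper86.stronglyClosed_imageAlong E Eb θ hEb hD
  have hDbfin : Finite ↥(imageAlong θ D) := finite_of_le hDb.1
  have hDbp : IsPGroup p ↥(imageAlong θ D) := hpG.to_le hDb.1
  have hDbne : imageAlong θ D ≠ ⊥ := by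
    intro h
    obtain ⟨d, hd, hdQ⟩ := SetLike.exists_of_lt hQD
    apply hdQ
    have h1 : θ ⟨d, hD.1 hd⟩ ∈ imageAlong θ D := mem_imageAlong.2 ⟨_, hd, rfl⟩
    rw [h, Subgroup.mem_bot] at h1
    exact (hker _).1 h1
  have hpf : PF p Eb := by
    apply IH _ _ hcard hpG Eb hsat _ hDb
    have hTne := inducedFunctor_ne_bot hW _ hDbp hDbne
    have hTn := normalizer_le_normalizer_inducedFunctor hW _ hDbp
    apply NI.factor hEb
    apply hT
    · refine lt_of_le_of_ne (Cfsg.Agent.Lib.Helper86.le_preimageAlong_of_ker hQ.1 hker _) ?_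
      intro h
      apply hTne
      rw [eq_bot_iff]
      intro t ht
      obtain ⟨s, rfl⟩ := hsurj t
      have h1 : (s : Ω) ∈ preimageAlong θ (inducedFunctor W (imageAlong θ D)) :=
        mem_preimageAlong.2 ⟨s.2, ht⟩
      rw [← h] at h1
      exact Subgroup.mem_bot.2 ((hker s).2 h1)
    · intro x hx
      obtain ⟨hxS, h1⟩ := mem_preimageAlong.1 hx
      obtain ⟨d, hd, hdx⟩ := mem_imageAlong.1 (inducedFunctor_le _ h1)
      have h2 : θ (⟨x, hxS⟩ * d⁻¹) = 1 := by rw [map_mul, map_inv, hdx, mul_inv_cancel]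
      have h3 := D.mul_mem (hQD.le ((hker _).1 h2)) hd
      have h4 : ((⟨x, hxS⟩ * d⁻¹ : S) : Ω) * (d : Ω) = x := by
        show x * (d : Ω)⁻¹ * (d : Ω) = x
        rw [inv_mul_cancel_right]
      rwa [h4] at h3
    · intro s hs
      have : Finite ↥(preimageAlong θ (inducedFunctor W (imageAlong θ D))) :=
        finite_of_le (preimageAlong_le _ _)
      apply mem_normalizer_of_finite
      intro t ht
      obtain ⟨h3, h4⟩ := mem_preimageAlong.1 ht
      rw [mem_preimageAlong]
      refine ⟨S.mul_mem (S.mul_mem hs h3) (S.inv_mem hs), ?_⟩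
      have e : (⟨s * t * s⁻¹, S.mul_mem (S.mul_mem hs h3) (S.inv_mem hs)⟩ : S) =
          ⟨s, hs⟩ * ⟨t, h3⟩ * ⟨s, hs⟩⁻¹ := rfl
      rw [e, map_mul, map_mul, map_inv]
      exact conj_mem_of_mem_normalizer (hTn (stronglyClosed_le_normalizer hDb trivial)) h4
  have hQcore : Q ≤ E.core := le_sSup hQ
  have hcen := centralizerIn_core_le' hS E hE (fun Z hZ hZS hZn =>
    stronglyClosed_of_factor_pf hS hE hQsc hEb hpf (hQcore.trans hZ) hZS hZn)
  have hcn : E.IsNormal E.core := isNormal_core E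
  refine ⟨hE, E.core, hcn, hcn.1, fun Q' hQ' => ?_⟩
  rw [isConj_eq_of_normal hcn hQ']
  exact hcen

/-- **Relative reduction to the constrained case.** -/
theorem pf_rel_aux {p : ℕ} [Fact p.Prime]
    (W : ∀ (Q : Type u) [Group Q], Subgroup Q) (hW : IsCharPFunctor p W)
    (hcon : ∀ (Ω : Type u) [Group Ω] (S : Subgroup Ω) [Finite S], IsPGroup p S →
      ∀ E : FusionSystem S, E.IsConstrained p → ∀ D : Subgroup Ω, E.StronglyClosed D →
      NI p E (inducedFunctor W D) → PF p E)
    (n : ℕ) : ∀ (Ω : Type u) [Group Ω] (S : Subgroup Ω) [Finite S], Nat.card S = n → IsPGroup p S →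
      ∀ F : FusionSystem S, F.IsSaturated p → ∀ D : Subgroup Ω, F.StronglyClosed D →
      NI p F (inducedFunctor W D) → PF p F := by
  induction n using Nat.strong_induction_on with
  | _ n ih =>
  intro Ω _ S _ hn hS F hF D hD hNI
  by_contra hpf
  have hDne : D ≠ ⊥ := by
    rintro rfl
    apply hpf
    apply pf_of_ni_bot
    have h1 : inducedFunctor W (⊥ : Subgroup Ω) = ⊥ := le_bot_iff.1 (inducedFunctor_le _)
    rwa [h1] at hNI
  have hDfin : Finite D := finite_of_le hD.1
  have hDp : IsPGroup p D := hS.to_le hD.1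
  obtain ⟨P₀, hP₀D, hP₀ne, hP₀⟩ := exists_not_ni_le hS hF hD hDne hpf
  obtain ⟨U₀, hU₀D, hU₀fn, hU₀c, hU₀ni, -⟩ := exists_fn_not_ni_rel hS hF hD hP₀D hP₀
  have hU₀ne : U₀ ≠ ⊥ := ne_bot_of_isConj hU₀c hP₀ne
  have hfinQ : {Q : Subgroup Ω | Q ≤ D ∧ Q ≠ ⊥ ∧ F.IsFullyNormalized Q ∧ ¬ NI p F Q}.Finite :=
    finite_subgroups_le.subset (fun Q hQ => hQ.2.2.1.1)
  obtain ⟨Q, ⟨hQD, hQne, hQfn, hQni⟩, hQmax⟩ := Set.exists_max_image _
    (fun Q : Subgroup Ω => Nat.card ↥(D ⊓ normalizerIn S Q) * (Nat.card S + 1) + Nat.card Q) hfinQ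
    ⟨U₀, hU₀D, hU₀ne, hU₀fn, hU₀ni⟩
  have hQS := hQfn.1
  obtain ⟨E, hE⟩ := Cfsg.Agent.S5096.result F Q hQS
  have hEsat := normalizerSystem_saturated hS hF hQfn E hE
  have hEsub := normalizerSystem_subsystem hE
  have hfinN : Finite (normalizerIn S Q) := finite_of_le (normalizerIn_le S Q)
  have hpN : IsPGroup p (normalizerIn S Q) := hS.to_le (normalizerIn_le S Q)
  have hEpf : ¬ PF p E := by
    intro h
    apply hQni
    intro P hQP hP α hα hαQ
    exact h P hP α (mem_autGroup_normalizerSystem hE hQP hP hα hαQ)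
  have hQcard : Nat.card Q ≤ Nat.card S := Subgroup.card_le_of_le hQS
  have hDE := stronglyClosed_of_subsystem hEsub hD
  by_cases hR : normalizerIn S Q = S
  · -- `Q` is normal in `S`
    have hcardR : Nat.card (normalizerIn S Q) = n := by rw [hR]; exact hn
    have hDeq : D ⊓ normalizerIn S Q = D := by rw [hR]; exact inf_eq_left.2 hD.1
    rw [hDeq] at hDE
    have hNI_E : NI p E (inducedFunctor W D) := hNI.mono hEsub
    have hQltD : Q < D := by
      refine lt_of_le_of_ne hQD ?_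
      rintro rfl
      exact hQni (NI.of_functor hW hS hQS hNI)
    have hEcon : E.IsConstrained p := by
      apply constrained_rel hpN W hW E hEsat _ (normal_normalizerSystem hQS hE) hQne hDE hQltD
      · intro T hT hTD hTn
        by_contra hTni
        have hTni' : ¬ NI p F T := fun h => hTni (h.mono hEsub)
        have hTS' : T ≤ S := hTD.trans hD.1
        have hNT : normalizerIn S T = S := by
          apply le_antisymm (normalizerIn_le S T)
          intro s hs
          exact ⟨hs, hTn (hR.symm ▸ hs : s ∈ normalizerIn S Q)⟩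
        have hTfn : F.IsFullyNormalized T := by
          refine ⟨hTS', fun T' _ => ?_⟩
          rw [hNT]
          exact Subgroup.card_le_of_le (normalizerIn_le S T')
        have h1 := hQmax T ⟨hTD, ne_bot_of_gt hT, hTfn, hTni'⟩
        rw [hNT, hR] at h1
        have : Finite T := finite_of_le hTS'
        have h2 : Nat.card Q < Nat.card T := card_lt_card_of_lt hT
        omega
      · intro Ω' _ S' _ hc hS' F' hF' D' hD' h'
        exact ih (Nat.card S') (hcardR ▸ hc) Ω' S' rfl hS' F' hF' D' hD' h'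
    exact hEpf (hcon Ω (normalizerIn S Q) hpN E hEcon D hDE hNI_E)
  · -- `N_S(Q) < S`
    have hlt : normalizerIn S Q < S := lt_of_le_of_ne (normalizerIn_le S Q) hR
    have hcard : Nat.card (normalizerIn S Q) < n := hn ▸ card_lt_card_of_lt hlt
    have hi : ¬ NI p E (inducedFunctor W (D ⊓ normalizerIn S Q)) :=
      fun h => hEpf (ih _ hcard Ω (normalizerIn S Q) rfl hpN E hEsat _ hDE h)
    have hUni : ¬ NI p F (inducedFunctor W (D ⊓ normalizerIn S Q)) := fun h => hi (h.mono hEsub)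
    by_cases hDN : D ≤ normalizerIn S Q
    · rw [inf_eq_left.2 hDN] at hUni
      exact hUni hNI
    · have hDlt : D ⊓ normalizerIn S Q < D :=
        lt_of_le_of_ne inf_le_left (fun h => hDN (inf_eq_left.1 h))
      have hUD : inducedFunctor W (D ⊓ normalizerIn S Q) ≤ D :=
        (inducedFunctor_le _).trans inf_le_left
      obtain ⟨U', hU'D, hU'fn, hU'c, hU'ni, hU'card⟩ := exists_fn_not_ni_rel hS hF hD hUD hUni
      have hfinDN : Finite ↥(D ⊓ normalizerIn S Q) := finite_of_le (inf_le_left.trans hD.1)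
      have hpDN : IsPGroup p ↥(D ⊓ normalizerIn S Q) := hS.to_le (inf_le_left.trans hD.1)
      have hNne : D ⊓ normalizerIn S Q ≠ ⊥ := by
        intro h
        apply hQne
        rw [eq_bot_iff, ← h]
        exact le_inf hQD (Cfsg.Agent.Lib.Helper84.le_normalizerIn hQS)
      have hUne : inducedFunctor W (D ⊓ normalizerIn S Q) ≠ ⊥ :=
        inducedFunctor_ne_bot hW _ hpDN hNne
      have hU'ne : U' ≠ ⊥ := ne_bot_of_isConj hU'c hUne
      have h1 : normalizerIn D (D ⊓ normalizerIn S Q) ≤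
          D ⊓ normalizerIn S (inducedFunctor W (D ⊓ normalizerIn S Q)) :=
        fun x hx => ⟨hx.1, hD.1 hx.1, normalizer_le_normalizer_inducedFunctor hW _ hpDN hx.2⟩
      have h2 : D ⊓ normalizerIn S Q < normalizerIn D (D ⊓ normalizerIn S Q) :=
        lt_normalizerIn hDp hDlt
      have hfin2 : Finite (normalizerIn D (D ⊓ normalizerIn S Q)) :=
        finite_of_le ((normalizerIn_le D _).trans hD.1)
      have hfin3 : Finite ↥(D ⊓ normalizerIn S (inducedFunctor W (D ⊓ normalizerIn S Q))) :=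
        finite_of_le (inf_le_left.trans hD.1)
      have h3 : Nat.card ↥(D ⊓ normalizerIn S Q) < Nat.card ↥(D ⊓ normalizerIn S U') :=
        lt_of_lt_of_le (card_lt_card_of_lt h2) ((Subgroup.card_le_of_le h1).trans hU'card)
      have h4 := hQmax U' ⟨hU'D, hU'ne, hU'fn, hU'ni⟩
      have h5 : (Nat.card ↥(D ⊓ normalizerIn S Q) + 1) * (Nat.card S + 1) ≤
          Nat.card ↥(D ⊓ normalizerIn S U') * (Nat.card S + 1) := Nat.mul_le_mul_right _ h3
      rw [add_mul, one_mul] at h5
      omega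

end Cfsg.Agent.Lib.Helper88
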