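import Mathlib
import Cfsg.Agent.Lib.Helper88.FusNilpRel3

set_option autoImplicit false

/-! Nilpotency criteria relative to a strongly closed subgroup: the constrained case (helper88). -/

universe u

namespace Cfsg.Agent.Lib.Helper88

open Cfsg Cfsg.FusionSystem Cfsg.Agent.Lib.Helper84 Cfsg.Agent.Lib.Helper85 Cfsg.Agent.Lib.Lead

/-- the image of a strongly closed subgroup in a realizing group is strongly closed -/
theorem isStronglyClosed_imageAlong {Ω : Type*} [Group Ω] {S : Subgroup Ω} {E : FusionSystem S}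
    {G : Type*} [Group G] {j : S →* G} (hr : E.IsRealizedBy j) {D : Subgroup Ω}
    (hD : E.StronglyClosed D) : IsStronglyClosed (imageAlong j D) j.range := by
  refine ⟨?_, ?_⟩
  · rintro _ ⟨s, -, rfl⟩
    exact ⟨s, rfl⟩
  · rintro _ ⟨d, hd, rfl⟩ g hg
    have hd' : (d : Ω) ∈ D := hd
    have hP : Subgroup.zpowers (d : Ω) ≤ D := by
      rw [Subgroup.zpowers_le]
      exact hd'
    obtain ⟨φ, hφ, hφS, hφj⟩ := realized_exists_hom hr (hP.trans hD.1) g (by
      rintro ⟨_, k, rfl⟩
      have h1 : (⟨(d : Ω) ^ k, (hP.trans hD.1) ⟨k, rfl⟩⟩ : S) = d ^ k := rfl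
      have h2 : g * j (d ^ k) * g⁻¹ = (g * j d * g⁻¹) ^ k := by
        rw [map_zpow, conj_zpow]
      show g * j ⟨(d : Ω) ^ k, _⟩ * g⁻¹ ∈ j.range
      rw [h1, h2]
      exact j.range.zpow_mem hg k)
    have h1 := hD.2 _ hP φ hφ ⟨d, Subgroup.mem_zpowers _⟩
    have h2 := hφj ⟨d, Subgroup.mem_zpowers _⟩
    have h3 : (⟨((⟨(d : Ω), Subgroup.mem_zpowers _⟩ : Subgroup.zpowers (d : Ω)) : Ω),
      (hP.trans hD.1) (Subgroup.mem_zpowers _)⟩ : S) = d := rfl
    rw [h3] at h2
    rw [← h2]
    exact mem_imageAlong.2 ⟨_, h1, rfl⟩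

/-- **The constrained case, relative version.** -/
theorem pf_of_constrained_rel {p : ℕ} [Fact p.Prime]
    (W : ∀ (Q : Type u) [Group Q], Subgroup Q) (hW : IsCharPFunctor p W)
    (hGroup : ∀ (G : Type u) [Group G] [Finite G] (P : Sylow p G) (D : Subgroup G),
      IsStronglyClosed D (P : Subgroup G) →
      Subgroup.centralizer ((pCore p G : Subgroup G) : Set G) ≤ pCore p G →
      HasNormalPComplement p (Subgroup.normalizer (inducedFunctor W D : Set G)) →
      HasNormalPComplement p G)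
    (Ω : Type u) [Group Ω] (S : Subgroup Ω) [Finite S] (hS : IsPGroup p S) (E : FusionSystem S)
    (hE : E.IsConstrained p) (D : Subgroup Ω) (hD : E.StronglyClosed D)
    (h : NI p E (inducedFunctor W D)) : PF p E := by
  obtain ⟨G, _, j, hfin, hr, ⟨T, hT⟩, hC⟩ := Cfsg.Agent.S5090.result p hS E hE
  have hinj := hr.1
  have hDp : IsPGroup p ↥(D.subgroupOf S) := hS.to_subgroup _
  have hDfin : Finite D := finite_of_le hD.1
  have hDp' : IsPGroup p D := hS.to_le hD.1
  have hWT : inducedFunctor W (imageAlong j D) = (inducedFunctor W (D.subgroupOf S)).map j :=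
    inducedFunctor_map hW j _ hDp (fun x _ hx => hinj (hx.trans (map_one j).symm))
  have hDmap : (D.subgroupOf S).map S.subtype = D := by
    rw [Subgroup.subgroupOf_map_subtype]
    exact inf_eq_left.2 hD.1
  have hWS : inducedFunctor W D = (inducedFunctor W (D.subgroupOf S)).map S.subtype := by
    have h1 := inducedFunctor_map hW S.subtype (D.subgroupOf S) hDp
      (fun x _ hx => S.subtype_injective (hx.trans (map_one S.subtype).symm))
    rwa [hDmap] at h1
  have hmem : ∀ s : S, j s ∈ inducedFunctor W (imageAlong j D) ↔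
      (s : Ω) ∈ inducedFunctor W D := by
    intro s
    rw [hWT, hWS]
    constructor
    · rintro ⟨s', hs', hss⟩
      rw [← hinj hss]
      exact ⟨s', hs', rfl⟩
    · rintro ⟨s', hs', hss⟩
      have : s' = s := Subtype.ext hss
      rw [← this]
      exact ⟨s', hs', rfl⟩
  have hsc : IsStronglyClosed (imageAlong j D) (T : Subgroup G) := by
    rw [hT]
    exact isStronglyClosed_imageAlong hr hD
  have hDbfin : Finite ↥(imageAlong j D) := inferInstance
  have hDbp : IsPGroup p ↥(imageAlong j D) := T.2.to_le hsc.1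
  have hTD : (T : Subgroup G) ≤ Subgroup.normalizer ((imageAlong j D : Subgroup G) : Set G) := by
    intro t ht
    apply mem_normalizer_of_finite
    intro x hx
    exact hsc.2 x hx t (T.1.mul_mem (T.1.mul_mem ht (hsc.1 hx)) (T.1.inv_mem ht))
  have hcomp : HasNormalPComplement p G := by
    apply hGroup G T _ hsc hC
    apply hasNormalPComplement_normalizer_of_frob T _ ((inducedFunctor_le _).trans hsc.1)
      (hTD.trans (normalizer_le_normalizer_inducedFunctor hW _ hDbp))
    intro U hVU hUT g hgU hgV hgo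
    obtain ⟨ρ, hρE, hρ⟩ := exists_aut_of_normalizer hr U (hT ▸ hUT)
    have hP := preimageAlong_le j U
    obtain ⟨k, hk⟩ := h (preimageAlong j U)
      (by
        intro x hx
        have hxS : x ∈ S := hD.1 (inducedFunctor_le _ hx)
        exact mem_preimageAlong.2 ⟨hxS, hVU ((hmem ⟨x, hxS⟩).2 hx)⟩)
      (fun x hx => ⟨hP hx, normalizer_le_normalizer_inducedFunctor hW _ hDp'
        (stronglyClosed_le_normalizer hD (hP hx))⟩)
      (ρ ⟨g, hgU⟩) (hρE _)
      (by
        intro x hx
        have h1 := (hmem ⟨x, hP x.2⟩).2 hx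
        have h2 := conj_mem_of_mem_normalizer hgV h1
        rw [← hρ ⟨g, hgU⟩ x] at h2
        exact (hmem _).1 h2)
    have h1 : ρ ⟨g, hgU⟩ ^ orderOf g = 1 := by
      rw [← map_pow]
      have : (⟨g, hgU⟩ : ↥(Subgroup.normalizer (U : Set G))) ^ orderOf g = 1 :=
        Subtype.ext (pow_orderOf_eq_one g)
      rw [this, map_one]
    have h2 : ρ ⟨g, hgU⟩ = 1 := by
      have h3 := orderOf_dvd_of_pow_eq_one hk
      have h4 := orderOf_dvd_of_pow_eq_one h1
      have h5 := Nat.dvd_gcd h4 h3
      rw [(Nat.Coprime.pow_right k hgo).gcd_eq_one, Nat.dvd_one, orderOf_eq_one_iff] at h5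
      exact h5
    rw [Subgroup.mem_centralizer_iff]
    intro u hu
    obtain ⟨s, rfl⟩ := (hT ▸ hUT) hu
    have hsP : (s : Ω) ∈ preimageAlong j U := mem_preimageAlong.2 ⟨s.2, hu⟩
    have h3 := hρ ⟨g, hgU⟩ ⟨s, hsP⟩
    rw [h2, MulAut.one_apply, eq_mul_inv_iff_mul_eq] at h3
    exact h3
  have htop := sylow_eq_top_of_hasNormalPComplement hC hcomp T
  intro P hP α hα
  rw [mem_autGroup_iff _ hP] at hα
  obtain ⟨g, hg⟩ := (hr.2 P hP _ (fun x => hP (α x).2)).1 hα
  have hgT : g ∈ j.range := by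
    rw [← hT, htop]
    trivial
  obtain ⟨s, rfl⟩ := hgT
  have hαS : α ∈ autInducedBy S P := by
    rw [Cfsg.Agent.Lib.Helper84.mem_autInducedBy_iff]
    refine ⟨s, s.2, fun x => ?_⟩
    have h1 := hg x
    rw [← map_inv, ← map_mul, ← map_mul] at h1
    exact congrArg (fun s : S => (s : Ω)) (hinj h1)
  obtain ⟨k, hk⟩ := isPGroup_autInducedBy hS P ⟨α, hαS⟩
  exact ⟨k, congrArg Subtype.val hk⟩

/-- **Relative nilpotency criterion for saturated fusion systems from a group-theoretic one.** -/
theorem pf_of_group_criterion_rel {p : ℕ} [Fact p.Prime]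
    (W : ∀ (Q : Type u) [Group Q], Subgroup Q) (hW : IsCharPFunctor p W)
    (hGroup : ∀ (G : Type u) [Group G] [Finite G] (P : Sylow p G) (D : Subgroup G),
      IsStronglyClosed D (P : Subgroup G) →
      Subgroup.centralizer ((pCore p G : Subgroup G) : Set G) ≤ pCore p G →
      HasNormalPComplement p (Subgroup.normalizer (inducedFunctor W D : Set G)) →
      HasNormalPComplement p G)
    {Ω : Type u} [Group Ω] {S : Subgroup Ω} [Finite S] (hS : IsPGroup p S) (F : FusionSystem S)
    (hF : F.IsSaturated p) (D : Subgroup Ω) (hD : F.StronglyClosed D)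
    (h : NI p F (inducedFunctor W D)) : PF p F :=
  pf_rel_aux W hW (fun Ω _ S _ hS E hE D hD h => pf_of_constrained_rel W hW hGroup Ω S hS E hE D hD h)
    _ Ω S rfl hS F hF D hD h

end Cfsg.Agent.Lib.Helper88
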