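import Cfsg.Agent.Lib.Helper85.FusRealNormal
import Cfsg.Agent.Lib.Helper88.SSMain
import Cfsg.Agent.S0071

set_option autoImplicit false

/-! The fusion system on `S` pulled back from a group `G` along an injective `ι : S →* G`, and
non-supersolubility of it when `G` has no normal 2-complement (helper88). -/

namespace Cfsg.Agent.Lib.Helper88.MC

open Cfsg Cfsg.FusionSystem Cfsg.Agent.Lib.Helper84 Cfsg.Agent.Lib.Helper85 Cfsg.Agent.Lib.Helper88

variable {Ω : Type*} [Group Ω] {S : Subgroup Ω} {G : Type*} [Group G]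

/-- the system on `S` whose maps are, read through `ι`, conjugations by elements of `G`. -/
noncomputable def realSys (ι : S →* G) (hι : Function.Injective ι) : FusionSystem S where
  Hom P := {φ | ∃ (hP : P ≤ S) (hφ : ∀ x : P, φ x ∈ S),
    ∃ g : G, ∀ x : P, ι ⟨φ x, hφ x⟩ = g * ι ⟨x, hP x.2⟩ * g⁻¹}
  le_of_mem := fun ⟨hP, hφ, _⟩ => ⟨hP, hφ⟩
  injective_of_mem := by
    rintro P φ ⟨hP, hφ, g, h⟩ a b hab
    have h1 : ι ⟨φ a, hφ a⟩ = ι ⟨φ b, hφ b⟩ := by
      congr 1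
      exact Subtype.ext hab
    rw [h a, h b] at h1
    have h2 := hι (mul_left_cancel (mul_right_cancel h1))
    exact Subtype.ext (congrArg (Subtype.val : S → Ω) h2)
  conj_mem := by
    intro P g hP hg
    refine ⟨hP, fun x => Subgroup.mul_mem _ (Subgroup.mul_mem _ hg (hP x.2)) (Subgroup.inv_mem _ hg),
      ι ⟨g, hg⟩, fun x => ?_⟩
    rw [← map_inv, ← map_mul, ← map_mul]
    rfl
  comp_mem := by
    rintro P Q φ ψ ⟨hP, hφ, g, h⟩ ⟨hQ, hψ, k, h'⟩ hPQ
    refine ⟨hP, fun x => hψ _, k * g, fun x => ?_⟩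
    have h1 := h' (φ.codRestrict Q hPQ x)
    have h2 := h x
    have e : ι ⟨(φ.codRestrict Q hPQ x : Q), hQ (φ.codRestrict Q hPQ x).2⟩ =
        ι ⟨φ x, hφ x⟩ := rfl
    rw [e, h2] at h1
    refine h1.trans ?_
    group
  inv_mem := by
    rintro P φ ⟨hP, hφ, g, h⟩
    have hinj : Function.Injective φ := by
      intro a b hab
      have h1 : ι ⟨φ a, hφ a⟩ = ι ⟨φ b, hφ b⟩ := by
        congr 1
        exact Subtype.ext hab
      rw [h a, h b] at h1
      have h2 := hι (mul_left_cancel (mul_right_cancel h1))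
      exact Subtype.ext (congrArg (Subtype.val : S → Ω) h2)
    have hψ : ∀ x : P, (P.subtype.comp (MonoidHom.ofInjective hinj).symm.toMonoidHom)
        ⟨φ x, ⟨x, rfl⟩⟩ = (x : Ω) := by
      intro x
      show (((MonoidHom.ofInjective hinj).symm ⟨φ x, ⟨x, rfl⟩⟩ : P) : Ω) = x
      have : (⟨φ x, ⟨x, rfl⟩⟩ : φ.range) = MonoidHom.ofInjective hinj x := rfl
      rw [this, MulEquiv.symm_apply_apply]
    refine ⟨P.subtype.comp (MonoidHom.ofInjective hinj).symm.toMonoidHom, ⟨?_, ?_, g⁻¹, ?_⟩, hψ⟩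
    · rintro _ ⟨x, rfl⟩; exact hφ x
    · intro y
      exact hP ((MonoidHom.ofInjective hinj).symm y).2
    · rintro ⟨_, x, rfl⟩
      have h1 := h x
      have e : ι ⟨(P.subtype.comp (MonoidHom.ofInjective hinj).symm.toMonoidHom) ⟨φ x, ⟨x, rfl⟩⟩,
          hP ((MonoidHom.ofInjective hinj).symm ⟨φ x, ⟨x, rfl⟩⟩).2⟩ =
          ι ⟨x, hP x.2⟩ := by
        congr 1
        exact Subtype.ext (hψ x)
      refine e.trans ?_
      show _ = g⁻¹ * ι ⟨φ x, _⟩ * g⁻¹⁻¹
      rw [h1]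
      group

theorem realSys_realized (ι : S →* G) (hι : Function.Injective ι) :
    (realSys ι hι).IsRealizedBy ι := by
  refine ⟨hι, ?_⟩
  intro P hP φ hφ
  constructor
  · rintro ⟨_, _, g, h⟩
    exact ⟨g, h⟩
  · rintro ⟨g, h⟩
    exact ⟨hP, hφ, g, h⟩

/-- for `p = 2`, a strongly closed chain with cyclic steps kills all odd order automorphisms in
the system. -/
theorem aut_eq_one_of_cycChain [Finite S] (hS : IsPGroup 2 S) {F : FusionSystem S}
    (h : CycChain S F.StronglyClosed) {P : Subgroup Ω} (hPS : P ≤ S) (α : MulAut P)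
    (hα : α ∈ F.autGroup P) (m : ℕ) (hm : Odd m) (hαm : α ^ m = 1) : α = 1 := by
  haveI : Fact (Nat.Prime 2) := ⟨Nat.prime_two⟩
  have hfinP : Finite P := finite_of_le hPS
  have hP : IsPGroup 2 P := hS.of_injective (Subgroup.inclusion hPS) (Subgroup.inclusion_injective hPS)
  obtain ⟨d, k, hmono, h0, hk, hn, hinv, hstep⟩ := chain_restrict h hPS
  have hH : (Nat.card (Subgroup.zpowers α)).Coprime 2 := by
    rw [Nat.card_zpowers]
    have h1 : orderOf α ∣ m := orderOf_dvd_of_pow_eq_one hαm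
    have h2 : Nat.Coprime m 2 := (Nat.coprime_two_right).mpr hm
    exact Nat.Coprime.coprime_dvd_left h1 h2
  have hle : Subgroup.zpowers α ≤ F.autGroup P := by
    rw [Subgroup.zpowers_le]; exact hα
  have := (comm_exp_of_chain hP (Subgroup.zpowers α) hH d k hmono h0 hk hn
    (fun a ha => hinv a (hle ha)) hstep).2 α (Subgroup.mem_zpowers α)
  simpa using this

/-- **W-lemma**: if `S` is isomorphic to a Sylow 2-subgroup of a finite group without normal
2-complement then some saturated fusion system on `S` is not supersoluble. -/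
theorem exists_not_cycChain [Finite S] (hS : IsPGroup 2 S) [Finite G] (T : Sylow 2 G)
    (e : S ≃* (T : Subgroup G))
    (hG : ¬ ∃ N : Subgroup G, N.Normal ∧ N.IsComplement' (T : Subgroup G)) :
    ∃ F : FusionSystem S, F.IsSaturated 2 ∧ ¬ CycChain S F.StronglyClosed := by
  haveI : Fact (Nat.Prime 2) := ⟨Nat.prime_two⟩
  set ι : S →* G := (T : Subgroup G).subtype.comp e.toMonoidHom with hιdef
  have hι : Function.Injective ι := by
    intro a b hab
    exact e.injective (Subtype.ext hab)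
  have hrange : (T : Subgroup G) = ι.range := by
    ext y
    constructor
    · intro hy
      exact ⟨e.symm ⟨y, hy⟩, by simp [hιdef]⟩
    · rintro ⟨s, rfl⟩
      exact (e s).2
  have hr := realSys_realized ι hι
  refine ⟨realSys ι hι, saturated_of_realized hr ⟨T, hrange⟩, fun hch => hG ?_⟩
  rw [Cfsg.Agent.S0071.result T]
  intro Q hQT g hgN hgo
  -- preimage of Q
  set Q₀ : Subgroup Ω := (Q.comap ι).map S.subtype with hQ₀
  have hQ₀S : Q₀ ≤ S := by
    rintro _ ⟨s, -, rfl⟩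
    exact s.2
  have hmem : ∀ x : Q₀, ι ⟨x, hQ₀S x.2⟩ ∈ Q := by
    rintro ⟨_, s, hs, rfl⟩
    exact hs
  have hsurj : ∀ y ∈ Q, ∃ x : Q₀, ι ⟨x, hQ₀S x.2⟩ = y := by
    intro y hy
    have hyT : y ∈ ι.range := hrange ▸ hQT hy
    obtain ⟨s, rfl⟩ := hyT
    exact ⟨⟨s, s, hy, rfl⟩, rfl⟩
  obtain ⟨β, hβ⟩ := realized_exists_aut hr hQ₀S g (fun x => by
    have h1 : g * ι ⟨x, hQ₀S x.2⟩ * g⁻¹ ∈ Q :=
      (Subgroup.mem_normalizer_iff.mp hgN _).mp (hmem x)
    exact hsurj _ h1)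
  have hpow : ∀ (k : ℕ) (x : Q₀), ι ⟨(((β : MulAut Q₀) ^ k) x : Q₀), hQ₀S (((β : MulAut Q₀) ^ k) x).2⟩
      = g ^ k * ι ⟨x, hQ₀S x.2⟩ * (g ^ k)⁻¹ := by
    intro k
    induction k with
    | zero => intro x; simp
    | succ k ih =>
      intro x
      rw [pow_succ', MulAut.mul_apply, hβ, ih, pow_succ']
      group
  have hβ1 : (β : MulAut Q₀) = 1 := by
    apply aut_eq_one_of_cycChain hS hch hQ₀S _ β.2 (orderOf g)
      ((Nat.coprime_two_right).mp hgo)
    ext x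
    apply congrArg (Subtype.val : S → Ω) (hι (a₁ := ⟨_, hQ₀S (((β : MulAut Q₀) ^ orderOf g) x).2⟩)
      (a₂ := ⟨x, hQ₀S x.2⟩) ?_)
    rw [hpow, pow_orderOf_eq_one]
    simp
  rw [Subgroup.mem_centralizer_iff]
  intro y hy
  obtain ⟨x, rfl⟩ := hsurj y hy
  have h1 := hβ x
  rw [hβ1] at h1
  have h2 : ι ⟨x, hQ₀S x.2⟩ = g * ι ⟨x, hQ₀S x.2⟩ * g⁻¹ := h1
  calc ι ⟨x, hQ₀S x.2⟩ * g = (g * ι ⟨x, hQ₀S x.2⟩ * g⁻¹) * g := by rw [← h2]
    _ = g * ι ⟨x, hQ₀S x.2⟩ := by group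

end Cfsg.Agent.Lib.Helper88.MC
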